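import Cfsg.Agent.Lib.OddLocal.RankTwo.Linear
import Cfsg.Agent.Lib.OddLocal.Ten.SylowFusion
import Cfsg.Agent.Lib.Techniques.SmallCritical
import Cfsg.Agent.S3771

/-!
Solvable groups of odd order acting on a `p`-group of rank at most two, `p` odd: the derived group
is a `p`-group and the other primes divide `p ^ 2 - 1`.
-/

set_option autoImplicit false

namespace CfsgLib.OddLocal.RankTwo

open Cfsg Subgroup
open scoped commutatorElement

universe u v

variable {p : ℕ} [hp : Fact p.Prime]

/-- A representation of degree two on an elementary abelian group of order `p ^ 2`. -/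
theorem exists_rep {V : Type v} [CommGroup V] [Finite V] (he : ∀ v : V, v ^ p = 1)
    (hV : Nat.card V = p ^ 2) {H : Type u} [Group H] (ψ : H →* MulAut V) :
    ∃ ρ : H →* GL (Fin 2) (ZMod p), ∀ g, ρ g = 1 → ψ g = 1 := by
  have : Module (ZMod p) (Additive V) := AddCommGroup.zmodModule fun x => by
    rw [← ofMul_toMul x, ← ofMul_pow, he]; rfl
  have : Module.Finite (ZMod p) (Additive V) := Module.Finite.of_finite
  have hdim : Module.finrank (ZMod p) (Additive V) = 2 := by
    have h1 := Module.natCard_eq_pow_finrank (K := ZMod p) (V := Additive V)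
    rw [Nat.card_zmod, show Nat.card (Additive V) = Nat.card V from Nat.card_congr Additive.toMul, hV] at h1
    exact (Nat.pow_right_injective hp.out.two_le h1).symm
  set b := Module.finBasisOfFinrankEq (ZMod p) (Additive V) hdim
  let lin : H → Module.End (ZMod p) (Additive V) := fun g =>
    AddMonoidHom.toZModLinearMap p
      { toFun := fun x => Additive.ofMul (ψ g (Additive.toMul x))
        map_zero' := by rw [toMul_zero, map_one, ofMul_one]
        map_add' := fun x y => by rw [toMul_add, map_mul, ofMul_mul] }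
  have linapp : ∀ g (x : Additive V), lin g x = Additive.ofMul (ψ g (Additive.toMul x)) :=
    fun g x => rfl
  let φ : H →* Module.End (ZMod p) (Additive V) :=
    { toFun := lin
      map_one' := LinearMap.ext fun x => by rw [linapp, map_one]; simp
      map_mul' := fun a b => LinearMap.ext fun x => by
        rw [Module.End.mul_apply, linapp, linapp, linapp, map_mul]; simp }
  refine ⟨((LinearMap.toMatrixAlgEquiv b).toRingEquiv.toRingHom.toMonoidHom.comp φ).toHomUnits, fun g hg => ?_⟩
  have h1 : φ g = 1 := by
    apply (LinearMap.toMatrixAlgEquiv b).injective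
    rw [map_one]
    exact congrArg Units.val hg
  refine MulEquiv.ext fun v => ?_
  exact congrArg Additive.toMul (LinearMap.congr_fun h1 (Additive.ofMul v))

/-- Odd solvable groups acting on an elementary abelian group of order `p ^ 2`. -/
theorem action_sq {V : Type v} [CommGroup V] [Finite V] (he : ∀ v : V, v ^ p = 1)
    (hV : Nat.card V = p ^ 2) {H : Type u} [Group H] [Finite H] [Group.IsSolvable H]
    (hodd : Odd (Nat.card H)) (ψ : H →* MulAut V) :
    (∀ x ∈ commutator H, ψ (x ^ p) = 1) ∧
      ∀ q : ℕ, q.Prime → q ≠ p → q ∣ Nat.card ψ.range → q ∣ (p - 1) * (p + 1) := by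
  obtain ⟨ρ, hρ⟩ := exists_rep he hV ψ
  refine ⟨fun x hx => hρ _ ?_, fun q hq hqp hd => ?_⟩
  · let K := AlgebraicClosure (ZMod p)
    let f : ZMod p →+* K := algebraMap (ZMod p) K
    have : CharP K p := charP_of_injective_algebraMap f.injective p
    let σ : ρ.range →* Matrix (Fin 2) (Fin 2) K :=
      f.mapMatrix.toMonoidHom.comp ((Units.coeHom _).comp ρ.range.subtype)
    have hσ : Function.Injective σ := fun a b h =>
      Subtype.ext (Units.ext (Matrix.map_injective f.injective h))
    have : Group.IsSolvable ρ.range := Group.isSolvable_of_surjective ρ.rangeRestrict_surjective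
    have hodd' : Odd (Nat.card ρ.range) := hodd.of_dvd_nat (card_range_dvd ρ)
    have hmem : ρ.rangeRestrict x ∈ commutator ρ.range := by
      have h1 := mem_map_of_mem ρ.rangeRestrict hx
      rw [_root_.commutator_def, map_commutator,
        map_top_of_surjective _ ρ.rangeRestrict_surjective, ← _root_.commutator_def] at h1
      exact h1
    have h2 := derived_pow_eq_one (p := p) hodd' σ hσ _ hmem
    rw [← map_pow] at h2
    exact congrArg Subtype.val h2
  · have hker : ρ.ker ≤ ψ.ker := fun g hg => hρ g hg
    have h1 : Nat.card ψ.range ∣ Nat.card ρ.range := by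
      rw [← index_ker, ← index_ker]; exact index_dvd_of_le hker
    have h2 := (hd.trans h1).trans (card_subgroup_dvd_card ρ.range)
    rw [Matrix.card_GL_field, Fin.prod_univ_two, ZMod.card] at h2
    simp only [Fin.val_zero, Fin.val_one, pow_zero, pow_one] at h2
    have h3 : p ^ 2 - 1 = (p - 1) * (p + 1) := by
      have := Nat.sq_sub_sq p 1
      simp only [one_pow] at this
      rw [this]; ring
    have h4 : p ^ 2 - p = p * (p - 1) := by rw [Nat.mul_sub, pow_two, mul_one]
    rw [h3, h4] at h2
    rcases hq.dvd_mul.1 h2 with h | h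
    · exact h
    · rcases hq.dvd_mul.1 h with h' | h'
      · exact absurd ((Nat.prime_dvd_prime_iff_eq hq hp.out).1 h') hqp
      · exact h'.mul_right _

/-- A characteristic subgroup gives an action on the quotient. -/
def quotChar {R : Type v} [Group R] (N : Subgroup R) [N.Normal] [hN : N.Characteristic] :
    MulAut R →* MulAut (R ⧸ N) where
  toFun a := QuotientGroup.congr N N a (characteristic_iff_map_eq.1 hN a)
  map_one' := by
    refine MulEquiv.ext fun x => ?_
    induction x using QuotientGroup.induction_on with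
    | _ x => rfl
  map_mul' a b := by
    refine MulEquiv.ext fun x => ?_
    induction x using QuotientGroup.induction_on with
    | _ x => rfl

omit hp in
/-- An automorphism of order prime to `p` moving elements only by a fixed central subgroup of
exponent `p` is trivial. -/
theorem eq_one_of_fix_quotient {R : Type v} [Group R] {N : Subgroup R} (hN : ∀ n ∈ N, n ^ p = 1)
    (a : MulAut R) (ha : (orderOf a).Coprime p) (hfix : ∀ n ∈ N, a n = n)
    (hmod : ∀ x, x⁻¹ * a x ∈ N) : a = 1 := by
  refine MulEquiv.ext fun x => ?_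
  set z := x⁻¹ * a x with hz
  have hax : a x = x * z := by rw [hz, mul_inv_cancel_left]
  have hn : ∀ n : ℕ, (a ^ n) x = x * z ^ n := by
    intro n
    induction n with
    | zero => simp
    | succ n ih =>
      rw [pow_succ', MulAut.mul_apply, ih, map_mul, map_pow, hfix z (hmod x), pow_succ', hax, mul_assoc]
  have h1 := hn (orderOf a)
  rw [pow_orderOf_eq_one, MulAut.one_apply, left_eq_mul] at h1
  have h2 : orderOf z = 1 := Nat.eq_one_of_dvd_coprimes ha (orderOf_dvd_of_pow_eq_one h1)
    (orderOf_dvd_of_pow_eq_one (hN z (hmod x)))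
  rw [hax, orderOf_eq_one_iff.1 h2, mul_one]
  rfl

/-- The action seen on an elementary abelian group of order `p ^ 2`, detecting the elements of order
prime to `p`. -/
theorem exists_detecting_sq {R : Type v} [Group R] [Finite R] (hR : IsPGroup p R) (hp2 : p ≠ 2)
    (hr : PRankLE p 2 R) :
    (∀ a : MulAut R, (orderOf a).Coprime p → a = 1) ∨
    ∃ (V : Type v) (_ : CommGroup V) (_ : Finite V) (θ : MulAut R →* MulAut V),
      (∀ v : V, v ^ p = 1) ∧ Nat.card V = p ^ 2 ∧
        ∀ a : MulAut R, (orderOf a).Coprime p → θ a = 1 → a = 1 := by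
  obtain ⟨D, hDc, hexp, -, hdet⟩ := CfsgLib.Techniques.SmallCritical.exists_detecting hR
  have hexp' : ∀ d : D, d ^ p = 1 := fun d => Subtype.ext (by
    have := hexp d d.2
    rwa [CfsgLib.Techniques.SmallCritical.smallExp, if_neg hp2] at this)
  have hDp : IsPGroup p D := hR.to_subgroup D
  have hDr := CfsgLib.PGroup.pRankLE_subgroup hr D
  have h3 := Cfsg.Agent.S3771.result hDp hDr hexp'
  obtain ⟨n, hn⟩ := hDp.exists_card_eq
  rw [hn] at h3
  have hn3 : n ≤ 3 := (Nat.pow_le_pow_iff_right hp.out.one_lt).1 h3
  -- the restriction to `D`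
  set θD : MulAut R →* MulAut D := MulAut.characteristic D
  have hθD : ∀ a, (orderOf a).Coprime p → θD a = 1 → a = 1 := fun a ha h => hdet a ha fun d hd =>
    congrArg Subtype.val (DFunLike.congr_fun h (⟨d, hd⟩ : D))
  rcases Nat.eq_zero_or_pos n with rfl | hn0
  · refine Or.inl fun a ha => hdet a ha fun d hd => ?_
    rw [pow_zero, Subgroup.card_eq_one] at hn
    subst hn
    rw [mem_bot.1 hd, map_one]
  by_cases hc : IsMulCommutative D
  · let _ : CommGroup D := { (inferInstance : Group D) with mul_comm := hc.is_comm.comm }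
    have hle : n ≤ 2 := by
      have := CfsgLib.PGroup.pRankLE_iff.1 hDr ⊤ (CfsgLib.PGroup.isElementaryAbelian_mk
        (fun a _ b _ => hc.is_comm.comm a b) (fun a _ => hexp' a))
      rw [card_top, hn] at this
      exact (Nat.pow_le_pow_iff_right hp.out.one_lt).1 this
    by_cases hn2 : n = 2
    · exact Or.inr ⟨D, inferInstance, inferInstance, θD, hexp', by rw [hn, hn2], hθD⟩
    · obtain rfl : n = 1 := by omega
      let diag : MulAut D →* MulAut (D × D) :=
        { toFun := fun a => MulEquiv.prodCongr a a
          map_one' := MulEquiv.ext fun _ => rfl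
          map_mul' := fun a b => MulEquiv.ext fun _ => rfl }
      refine Or.inr ⟨D × D, inferInstance, inferInstance, diag.comp θD,
        fun v => Prod.ext (hexp' _) (hexp' _), by rw [Nat.card_prod, hn, ← pow_add], fun a ha h => ?_⟩
      refine hθD a ha (MulEquiv.ext fun d => ?_)
      exact congrArg Prod.fst (DFunLike.congr_fun h (d, d))
  · have hn' : n = 3 := by
      by_contra hne
      have hle : n ≤ 2 := by omega
      refine hc ⟨⟨fun a b => ?_⟩⟩
      rcases (show n = 1 ∨ n = 2 by omega) with rfl | rfl
      · have : IsCyclic D := isCyclic_of_prime_card (p := p) (by rw [hn, pow_one])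
        exact IsCyclic.isMulCommutative.is_comm.comm a b
      · exact (IsPGroup.isMulCommutative_of_card_eq_prime_sq hn).is_comm.comm a b
    subst hn'
    have hZ := CfsgLib.OddLocal.Ten.center_eq_commutator_of_card_cube hn hc
    have hab : ∀ x y : D ⧸ center D, x * y = y * x := fun x y => by
      induction x using QuotientGroup.induction_on with
      | _ x =>
        induction y using QuotientGroup.induction_on with
        | _ y =>
          rw [← commutatorElement_eq_one_iff_mul_comm]
          show QuotientGroup.mk' (center D) ⁅x, y⁆ = 1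
          rw [QuotientGroup.mk'_apply, QuotientGroup.eq_one_iff, hZ, _root_.commutator_def]
          exact commutator_mem_commutator (mem_top x) (mem_top y)
    let _ : CommGroup (D ⧸ center D) := { (inferInstance : Group (D ⧸ center D)) with mul_comm := hab }
    have hcard : Nat.card (center D) = p := by
      have hnt : Nontrivial D := Finite.one_lt_card_iff_nontrivial.1
        (hn ▸ Nat.one_lt_pow (by norm_num) hp.out.one_lt)
      have := hDp.center_nontrivial
      obtain ⟨k, hk, hkc⟩ := (Nat.dvd_prime_pow hp.out).1 (hn ▸ card_subgroup_dvd_card (center D))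
      have hk0 : k ≠ 0 := fun e => (Finite.one_lt_card_iff_nontrivial.2 this).ne' (by rw [hkc, e, pow_zero])
      have hidx : (center D).index = p ^ (3 - k) := by
        refine Nat.eq_of_mul_eq_mul_left (pow_pos hp.out.pos k) ?_
        rw [← pow_add, Nat.add_sub_cancel' hk, ← hkc, card_mul_index, hn]
      by_contra hne
      have hcyc : IsCyclic (D ⧸ center D) := by
        rcases (show k = 2 ∨ k = 3 by
          rcases (show k = 1 ∨ k = 2 ∨ k = 3 by omega) with rfl | h | h
          · exact absurd (by rw [hkc, pow_one]) hne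
          · exact Or.inl h
          · exact Or.inr h) with rfl | rfl
        · exact isCyclic_of_prime_card (p := p) (by rw [← index_eq_card, hidx, pow_one])
        · have : Subsingleton (D ⧸ center D) := (Nat.card_eq_one_iff_unique.1
            (by rw [← index_eq_card, hidx, pow_zero])).1
          exact ⟨1, fun x => ⟨0, Subsingleton.elim _ _⟩⟩
      exact hc (MonoidHom.isMulCommutative_of_isCyclic_of_ker_le_center (QuotientGroup.mk' (center D))
        (by rw [QuotientGroup.ker_mk']))
    refine Or.inr ⟨D ⧸ center D, inferInstance, inferInstance, (quotChar (center D)).comp θD, ?_, ?_, ?_⟩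
    · intro v
      induction v using QuotientGroup.induction_on with
      | _ v => rw [← QuotientGroup.mk_pow, hexp', QuotientGroup.mk_one]
    · refine Nat.eq_of_mul_eq_mul_left hp.out.pos ?_
      rw [← index_eq_card]
      conv_lhs => rw [← hcard]
      rw [card_mul_index, hn]; ring
    · intro a ha h
      refine hθD a ha ?_
      have hmod : ∀ x : D, x⁻¹ * θD a x ∈ center D := fun x => QuotientGroup.eq.1
        (DFunLike.congr_fun h (x : D ⧸ center D)).symm
      refine eq_one_of_fix_quotient (N := center D) (fun n _ => hexp' n) _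
        (Nat.Coprime.coprime_dvd_left (orderOf_map_dvd θD a) ha) ?_ hmod
      intro n hn'
      rw [hZ] at hn'
      have hle : _root_.commutator D ≤ (θD a).toMonoidHom.eqLocus (MonoidHom.id D) := by
        rw [_root_.commutator_def, commutator_le]
        intro x _ y _
        obtain ⟨zx, hzx, ex⟩ : ∃ z ∈ center D, θD a x = x * z :=
          ⟨_, hmod x, (mul_inv_cancel_left _ _).symm⟩
        obtain ⟨zy, hzy, ey⟩ : ∃ z ∈ center D, θD a y = y * z :=
          ⟨_, hmod y, (mul_inv_cancel_left _ _).symm⟩
        show θD a ⁅x, y⁆ = ⁅x, y⁆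
        have cx := fun w => mem_center_iff.1 hzx w
        have cy := fun w => mem_center_iff.1 hzy w
        rw [map_commutatorElement, ex, ey, commutatorElement_def, commutatorElement_def, mul_inv_rev,
          mul_inv_rev]
        calc x * zx * (y * zy) * (zx⁻¹ * x⁻¹) * (zy⁻¹ * y⁻¹)
            = x * (zx * (y * zy)) * (zx⁻¹ * x⁻¹) * (zy⁻¹ * y⁻¹) := by group
          _ = x * ((y * zy) * zx) * (zx⁻¹ * x⁻¹) * (zy⁻¹ * y⁻¹) := by rw [cx (y * zy)]
          _ = x * y * (zy * x⁻¹) * zy⁻¹ * y⁻¹ := by group
          _ = x * y * (x⁻¹ * zy) * zy⁻¹ * y⁻¹ := by rw [cy x⁻¹]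
          _ = x * y * x⁻¹ * y⁻¹ := by group
      exact hle hn'

/-- The main statement on operator groups of `p`-groups of rank at most two. -/
theorem operator_rank_two {R : Type v} [Group R] [Finite R] (hR : IsPGroup p R) (hp2 : p ≠ 2)
    (hr : PRankLE p 2 R) {A : Type u} [Group A] [Finite A] [Group.IsSolvable A]
    (hodd : Odd (Nat.card A)) (ψ : A →* MulAut R)
    (hfaith : ∀ a : A, (orderOf a).Coprime p → ψ a = 1 → a = 1) :
    IsPGroup p (commutator A) ∧
      ∀ q : ℕ, q.Prime → q ≠ p → q ∣ Nat.card A → q ∣ (p - 1) * (p + 1) ∧ q < p := by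
  rcases exists_detecting_sq hR hp2 hr with h | ⟨V, _, _, θ, he, hV, hdet⟩
  · have hall : ∀ a : A, (orderOf a).Coprime p → a = 1 := fun a ha =>
      hfaith a ha (h _ (Nat.Coprime.coprime_dvd_left (orderOf_map_dvd ψ a) ha))
    have hA : ∀ q : ℕ, q.Prime → q ∣ Nat.card A → q = p := fun q hq hd => by
      by_contra hne
      have : Fact q.Prime := ⟨hq⟩
      obtain ⟨a, ha⟩ := exists_prime_orderOf_dvd_card' q hd
      have := hall a (ha ▸ (Nat.coprime_primes hq hp.out).2 hne)
      rw [this, orderOf_one] at ha
      exact hq.ne_one ha.symm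
    refine ⟨?_, fun q hq hne hd => absurd (hA q hq hd) hne⟩
    exact (IsPGroup.of_card (Nat.eq_prime_pow_of_unique_prime_dvd Nat.card_pos.ne'
      fun {q} hq hd => hA q hq hd)).to_subgroup _
  have hdetA : ∀ a : A, (orderOf a).Coprime p → θ (ψ a) = 1 → a = 1 := fun a ha h =>
    hfaith a ha (hdet _ (Nat.Coprime.coprime_dvd_left (orderOf_map_dvd ψ a) ha) h)
  obtain ⟨h1, h2⟩ := action_sq he hV hodd (θ.comp ψ)
  refine ⟨fun y => ?_, fun q hq hne hd => ?_⟩
  · obtain ⟨a, b, hab, ha, hb, ⟨k, hk⟩, hbc⟩ := CfsgLib.Cores.exists_pow_mul_pow p (y : A)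
    have hbA : b ∈ commutator A := (zpowers_le.2 y.2) hb
    have hb1 : b = 1 := by
      have hbp : (orderOf (b ^ p)).Coprime p := Nat.Coprime.coprime_dvd_left (orderOf_pow_dvd _) hbc
      have h3 := hdetA _ hbp (h1 b hbA)
      exact orderOf_eq_one_iff.1 (Nat.eq_one_of_dvd_coprimes hbc dvd_rfl (orderOf_dvd_of_pow_eq_one h3))
    refine ⟨k, Subtype.ext ?_⟩
    rw [Subgroup.coe_pow, hab, hb1, mul_one, ← hk, pow_orderOf_eq_one]
    rfl
  · have : Fact q.Prime := ⟨hq⟩
    obtain ⟨a, ha⟩ := exists_prime_orderOf_dvd_card' q hd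
    have hne1 : (θ.comp ψ) a ≠ 1 := fun e => by
      have := hdetA a (ha ▸ (Nat.coprime_primes hq hp.out).2 hne) e
      rw [this, orderOf_one] at ha
      exact hq.ne_one ha.symm
    have hqd : q ∣ Nat.card (θ.comp ψ).range := by
      have h3 : orderOf ((θ.comp ψ) a) = q :=
        ((Nat.dvd_prime hq).1 (ha ▸ orderOf_map_dvd (θ.comp ψ) a)).resolve_left
          fun e => hne1 (orderOf_eq_one_iff.1 e)
      exact h3 ▸ Subgroup.orderOf_dvd_natCard _ (MonoidHom.mem_range.2 ⟨a, rfl⟩)
    have hd' := h2 q hq hne hqd
    refine ⟨hd', ?_⟩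
    have hq2 : q ≠ 2 := fun e => Nat.not_even_iff_odd.2 hodd (even_iff_two_dvd.2 (e ▸ hd))
    have hp2' : 2 < p := lt_of_le_of_ne hp.out.two_le (Ne.symm hp2)
    rcases hq.dvd_mul.1 hd' with h | h
    · have := Nat.le_of_dvd (by omega) h; omega
    · have h' : q ∣ (p + 1) / 2 := by
        have h2p : 2 ∣ p + 1 := by
          obtain ⟨j, hj⟩ := hp.out.odd_of_ne_two hp2; exact ⟨j + 1, by omega⟩
        rw [← Nat.mul_div_cancel' h2p] at h
        exact (hq.dvd_mul.1 h).resolve_left fun e => hq2 ((Nat.prime_dvd_prime_iff_eq hq Nat.prime_two).1 e)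
      have := Nat.le_of_dvd (by omega) h'; omega

end CfsgLib.OddLocal.RankTwo
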