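import Cfsg.Agent.Lib.OddLocal.RankTwo.PowerMap
import Cfsg.Agent.Lib.OddLocal.RankTwo.Operator
import Cfsg.Agent.Lib.OddLocal.Ten.RankOne

/-!
A `p`-group of rank at most two generated by the commutators with a coprime group of operators of
odd order: abelian, or a central product of an extraspecial group of order `p ^ 3` and a cyclic group.
-/

set_option autoImplicit false

namespace CfsgLib.OddLocal.RankTwo

open Cfsg Subgroup CfsgLib.PGroup
open scoped commutatorElement

universe u v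

/-- A nontrivial fixed point of a coprime action on an abelian group: the displacements do not
generate. -/
theorem closure_ne_top_of_fixed {V : Type u} [CommGroup V] {A : Type v} [Group A] [Finite A]
    (θ : A →* MulAut V) {v : V} (hv : v ≠ 1) (hfix : ∀ a, θ a v = v)
    (hcop : (Nat.card A).Coprime (orderOf v)) :
    closure {d : V | ∃ a x, x⁻¹ * θ a x = d} ≠ ⊤ := by
  have := Fintype.ofFinite A
  let T : V →* V :=
    { toFun := fun x => ∏ b : A, θ b x
      map_one' := by simp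
      map_mul' := fun x y => by simp [Finset.prod_mul_distrib] }
  have hle : closure {d : V | ∃ a x, x⁻¹ * θ a x = d} ≤ T.ker := by
    rw [closure_le]
    rintro _ ⟨a, x, rfl⟩
    show T (x⁻¹ * θ a x) = 1
    rw [map_mul, map_inv, inv_mul_eq_one]
    show ∏ b : A, θ b x = ∏ b : A, θ b (θ a x)
    exact (Fintype.prod_equiv (Equiv.mulRight a) _ _ fun b => by
      rw [Equiv.coe_mulRight, map_mul, MulAut.mul_apply]).symm
  intro htop
  have h1 : T v = 1 := hle (htop ▸ mem_top v)
  change ∏ b : A, θ b v = 1 at h1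
  simp only [hfix, Finset.prod_const, Finset.card_univ, ← Nat.card_eq_fintype_card] at h1
  exact hv (orderOf_eq_one_iff.1 (Nat.eq_one_of_dvd_coprimes hcop (orderOf_dvd_of_pow_eq_one h1) dvd_rfl))

variable {R : Type u} [Group R] {A : Type v} [Group A]

/-- `R = [R, A]`. -/
def Generates (ψ : A →* MulAut R) : Prop := closure {d : R | ∃ a x, x⁻¹ * ψ a x = d} = ⊤

theorem Generates.quotient {ψ : A →* MulAut R} (h : Generates ψ) (N : Subgroup R) [N.Normal]
    [N.Characteristic] : Generates ((quotChar N).comp ψ) := by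
  unfold Generates at h ⊢
  rw [eq_top_iff, ← map_top_of_surjective (QuotientGroup.mk' N) (QuotientGroup.mk'_surjective N), ← h,
    MonoidHom.map_closure, closure_le]
  rintro _ ⟨_, ⟨a, x, rfl⟩, rfl⟩
  exact Subgroup.subset_closure ⟨a, (x : R ⧸ N), rfl⟩

/-- No proper invariant subgroup has all operators trivial on a generator of the quotient. -/
theorem Generates.false_of_fix {ψ : A →* MulAut R} (h : Generates ψ) {K : Subgroup R} [K.Normal]
    (hK : K ≠ ⊤) {x : R} (hdec : ∀ y, ∃ n : ℕ, ∃ k ∈ K, y = x ^ n * k)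
    (hinv : ∀ a, ∀ k ∈ K, ψ a k ∈ K) (hfix : ∀ a, x⁻¹ * ψ a x ∈ K) : False := by
  refine hK (top_le_iff.1 (h.ge.trans ((closure_le _).2 ?_)))
  rintro _ ⟨a, y, rfl⟩
  obtain ⟨n, k, hk, rfl⟩ := hdec y
  have hx : QuotientGroup.mk' K (ψ a x) = QuotientGroup.mk' K x :=
    (QuotientGroup.eq.2 (hfix a)).symm
  show (x ^ n * k)⁻¹ * ψ a (x ^ n * k) ∈ K
  rw [← QuotientGroup.eq_one_iff, ← QuotientGroup.mk'_apply]
  rw [map_mul (ψ a), map_pow (ψ a), map_mul, map_inv, map_mul, map_mul, map_pow, map_pow, hx]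
  have h1 : QuotientGroup.mk' K k = 1 := (QuotientGroup.eq_one_iff k).2 hk
  have h2 : QuotientGroup.mk' K (ψ a k) = 1 := (QuotientGroup.eq_one_iff _).2 (hinv a k hk)
  rw [h1, h2]
  simp

variable {p : ℕ} [hp : Fact p.Prime] [Finite R]

theorem index_mul_le (hR : IsPGroup p R) {H K : Subgroup R} (h : H < K) : p * K.index ≤ H.index := by
  rw [← relIndex_mul_index h.le]
  refine Nat.mul_le_mul_right _ (Nat.le_of_dvd (Nat.pos_of_ne_zero index_ne_zero_of_finite) ?_)
  obtain ⟨n, hn⟩ := hR.to_subgroup K |>.exists_card_eq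
  obtain ⟨m, -, hm⟩ := (Nat.dvd_prime_pow hp.out).1 (hn ▸ index_dvd_card (H.subgroupOf K))
  have hm0 : m ≠ 0 := fun e => h.not_ge (relIndex_eq_one.1 (by rw [relIndex, hm, e, pow_zero]))
  rw [relIndex, hm]
  exact dvd_pow_self p hm0

theorem exists_pow_mul (hR : IsPGroup p R) {K : Subgroup R} [K.Normal] (hK : K.index = p) {x : R}
    (hx : x ∉ K) (y : R) : ∃ n : ℕ, ∃ k ∈ K, y = x ^ n * k := by
  have hlt : K < zpowers x ⊔ K :=
    lt_of_le_of_ne le_sup_right fun e => hx (e ▸ mem_sup_left (mem_zpowers x))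
  have h := index_mul_le hR hlt
  rw [hK] at h
  have htop : zpowers x ⊔ K = ⊤ := index_eq_one.1 (by
    have : (zpowers x ⊔ K).index ≠ 0 := index_ne_zero_of_finite
    have := Nat.le_of_mul_le_mul_left (h.trans_eq (mul_one p).symm) hp.out.pos
    omega)
  obtain ⟨a, ha, k, hk, rfl⟩ := mem_sup_of_normal_right.1 (htop ▸ mem_top y : y ∈ zpowers x ⊔ K)
  obtain ⟨n, rfl⟩ := mem_powers_iff_mem_zpowers.2 ha
  exact ⟨n, k, hk, rfl⟩

omit [Finite R] in
theorem comm_pow_mul {w x φ φ' : R} (hcom : ∀ a b : R, ⁅a, b⁆ ∈ center R)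
    (hφ : φ ∈ center R) (hφ' : φ' ∈ center R) (i j t : ℕ) :
    ⁅w ^ j * φ', x ^ i * w ^ t * φ⁆ = ⁅w, x⁆ ^ (i * j) := by
  have hz : ∀ {c : R}, c ∈ center R → ∀ g : R, ⁅c, g⁆ = 1 ∧ ⁅g, c⁆ = 1 := fun hc g =>
    ⟨commutatorElement_eq_one_iff_mul_comm.2 (mem_center_iff.1 hc g).symm,
      commutatorElement_eq_one_iff_mul_comm.2 (mem_center_iff.1 hc g)⟩
  rw [comm_mul_left (hcom _ _), (hz hφ' _).1, mul_one, comm_mul_right (hcom _ _), (hz hφ _).2, mul_one,
    comm_mul_right (hcom _ _), comm_pow_left (hcom _ _), comm_pow_left (hcom _ _),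
    comm_pow_right (hcom _ _), comm_pow_right (hcom _ _), commutatorElement_self, one_pow, one_pow,
    mul_one, ← pow_mul]

theorem modEq_one_of_pow_eq {c : R} (hc : orderOf c = p) {i j : ℕ} (hj : c ^ j ≠ 1)
    (h : c ^ (i * j) = c ^ j) : i ≡ 1 [MOD p] := by
  have hjp : ¬ p ∣ j := fun hd => hj (orderOf_dvd_iff_pow_eq_one.1 (hc.symm ▸ hd))
  have h1 : i * j ≡ 1 * j [MOD p] := by rw [one_mul, ← hc]; exact pow_eq_pow_iff_modEq.1 h
  exact Nat.ModEq.cancel_right_of_coprime ((hp.out.coprime_iff_not_dvd.2 hjp)) h1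

omit [Finite R] hp in
theorem inv_mul_pow_mem {K : Subgroup R} {x : R} (hxp : x ^ p ∈ K) {i : ℕ} (hi : i ≡ 1 [MOD p]) :
    x⁻¹ * x ^ i ∈ K := by
  rw [← QuotientGroup.eq] at *
  have := hi
  rcases Nat.eq_zero_or_pos i with rfl | hi0
  · obtain ⟨m, hm⟩ := (Nat.modEq_iff_dvd' (Nat.zero_le 1)).1 hi
    rw [Nat.sub_zero] at hm
    have hp1 : p = 1 := Nat.eq_one_of_mul_eq_one_right hm.symm
    rw [hp1, pow_one] at hxp
    rw [pow_zero, QuotientGroup.eq, mul_one]
    exact inv_mem hxp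
  · obtain ⟨m, hm⟩ := (Nat.modEq_iff_dvd' hi0).1 hi.symm
    rw [QuotientGroup.eq, show i = 1 + p * m by omega, pow_add, pow_one, inv_mul_cancel_left, pow_mul]
    exact pow_mem hxp m

/-- No such action when the `p`-th power map is a homomorphism onto a central subgroup of index at
most `p ^ 2` containing the nontrivial derived group of exponent `p`. -/
theorem false_of_central_powers [Finite A] (hR : IsPGroup p R) {ψ : A →* MulAut R}
    (hA : (Nat.card A).Coprime p) (hgen : Generates ψ) (π : R →* R) (hπ : ∀ x, π x = x ^ p)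
    (hP : π.range ≤ center R) (hidx : π.range.index ≤ p ^ 2) (hcomm : ∀ a b : R, ⁅a, b⁆ ∈ π.range)
    (hexp : ∀ a b : R, ⁅a, b⁆ ^ p = 1) {a₀ b₀ : R} (hne : ⁅a₀, b₀⁆ ≠ 1) : False := by
  set P := π.range with hPdef
  have hcom : ∀ a b : R, ⁅a, b⁆ ∈ center R := fun a b => hP (hcomm a b)
  have hPn : P.Normal := ⟨fun y hy g => by rwa [mem_center_iff.1 (hP hy) g, mul_inv_cancel_right]⟩
  have hPc : P.Characteristic := characteristic_iff_map_le.2 fun φ => by
    rintro _ ⟨_, ⟨x, rfl⟩, rfl⟩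
    exact ⟨φ x, by simp [hπ]⟩
  have hxP : ∀ x : R, x ^ p ∈ P := fun x => ⟨x, hπ x⟩
  have hidx2 : ∀ K : Subgroup R, P < K → K ≠ ⊤ → K.index = p := by
    intro K hPK hK
    have h1 := index_mul_le hR hPK
    have h2 := index_mul_le hR (lt_top_iff_ne_top.2 hK)
    rw [index_top, mul_one] at h2
    have : p * K.index ≤ p * p := by rw [← pow_two]; exact h1.trans hidx
    exact le_antisymm (Nat.le_of_mul_le_mul_left this hp.out.pos) h2
  -- the derived group is `⟨c⟩`
  set c := ⁅a₀, b₀⁆ with hc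
  have hco : orderOf c = p := orderOf_eq_prime (hexp _ _) hne
  have hgen2 : closure {a₀, b₀} = ⊤ := by
    refine eq_top_of_sup_frattini (top_le_iff.1 ?_)
    refine le_trans ?_ (sup_le_sup_left (show P ≤ frattini R by
      rintro _ ⟨x, rfl⟩; rw [hπ]; exact pow_mem_frattini hR x) _)
    have hcP : ∀ y ∈ P, ∀ g : R, g * y = y * g := fun y hy g => mem_center_iff.1 (hP hy) g
    have ha : a₀ ∉ P := fun h => hne (commutatorElement_eq_one_iff_mul_comm.2 (hcP _ h b₀).symm)
    set K := zpowers a₀ ⊔ P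
    have hKC : K ≤ centralizer ({a₀} : Set R) := sup_le (zpowers_le.2 (mem_centralizer_singleton_iff.2 rfl))
      fun y hy => mem_centralizer_singleton_iff.2 (hcP y hy a₀).symm
    have hb : b₀ ∉ K := fun h => hne (commutatorElement_eq_one_iff_mul_comm.2
      (mem_centralizer_singleton_iff.1 (hKC h)).symm)
    have hK : K.index = p := hidx2 K
      (lt_of_le_of_ne le_sup_right fun e => ha (e ▸ mem_sup_left (mem_zpowers a₀)))
      fun e => hb (e ▸ mem_top _)
    have hle : K ≤ closure {a₀, b₀} ⊔ P :=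
      sup_le_sup_right (zpowers_le.2 (Subgroup.subset_closure (Set.mem_insert a₀ {b₀}))) _
    have hlt : K < closure {a₀, b₀} ⊔ P := lt_of_le_of_ne hle fun e =>
      hb (e ▸ mem_sup_left (Subgroup.subset_closure (Or.inr rfl)))
    have h := index_mul_le hR hlt
    rw [hK] at h
    refine (index_eq_one.1 ?_).ge
    have : (closure {a₀, b₀} ⊔ P).index ≠ 0 := index_ne_zero_of_finite
    have := Nat.le_of_mul_le_mul_left (h.trans_eq (mul_one p).symm) hp.out.pos
    omega
  have hzn : (zpowers c).Normal := ⟨fun y hy g => by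
    rwa [mem_center_iff.1 (zpowers_le.2 (hcom a₀ b₀) hy) g, mul_inv_cancel_right]⟩
  have hD : ∀ a b : R, ⁅a, b⁆ ∈ zpowers c := fun a b =>
    (commutator_le_of_generators hgen2 (mem_zpowers c))
      (by rw [_root_.commutator_def]; exact commutator_mem_commutator (mem_top _) (mem_top _))
  have hac : ∀ a, ψ a c ∈ zpowers c := fun a => by rw [hc, map_commutatorElement]; exact hD _ _
  -- iterated powers
  have hmul : ∀ (k : ℕ) (x y : R), (x * y) ^ p ^ k = x ^ p ^ k * y ^ p ^ k := by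
    intro k
    induction k with
    | zero => simp
    | succ k ih =>
      intro x y
      rw [pow_succ, pow_mul, ih, ← hπ, map_mul, hπ, hπ, ← pow_mul, ← pow_mul]
  let pk : ℕ → R →* R := fun k =>
    { toFun := fun x => x ^ p ^ k
      map_one' := one_pow _
      map_mul' := hmul k }
  have hpk : ∀ k x, pk k x = x ^ p ^ k := fun k x => rfl
  obtain ⟨n, hn⟩ := hR.exists_card_eq
  obtain ⟨k, ⟨w, hw⟩, hk⟩ : ∃ k, (∃ w, w ^ p ^ k = c) ∧ ¬ ∃ w, w ^ p ^ (k + 1) = c := by
    by_contra hall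
    push Not at hall
    have : ∀ k, ∃ w, w ^ p ^ k = c := fun k => by
      induction k with
      | zero => exact ⟨c, by simp⟩
      | succ k ih => exact hall k ih
    obtain ⟨w, hw⟩ := this n
    rw [← hn, pow_card_eq_one'] at hw
    exact hne hw.symm
  have hdeep : ∀ φ ∈ P, φ ^ p ^ k ∈ zpowers c → φ ^ p ^ k = 1 := by
    rintro _ ⟨y, rfl⟩ hmem
    by_contra h1
    have hy : π y ^ p ^ k = y ^ p ^ (k + 1) := by rw [hπ, ← pow_mul, ← pow_succ']
    rw [hy] at hmem h1
    have hzp : zpowers (y ^ p ^ (k + 1)) = zpowers c := by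
      refine eq_of_le_of_card_ge (zpowers_le.2 hmem) ?_
      rw [Nat.card_zpowers, Nat.card_zpowers, hco]
      refine (orderOf_eq_prime ?_ h1).ge
      obtain ⟨m, hm⟩ := mem_powers_iff_mem_zpowers.2 hmem
      rw [← hm, ← pow_mul, mul_comm, pow_mul, hexp, one_pow]
    obtain ⟨m, hm⟩ := mem_powers_iff_mem_zpowers.2 (hzp ▸ mem_zpowers c : c ∈ zpowers (y ^ p ^ (k + 1)))
    exact hk ⟨y ^ m, by rw [← pow_mul, mul_comm, pow_mul]; exact hm⟩
  have hwP : w ∉ P := fun h => hne (hw ▸ hdeep w h (hw.symm ▸ mem_zpowers c))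
  have hact : ∀ (a : A) (k : ℕ) (y : R), ψ a (y ^ p ^ k) = (ψ a y) ^ p ^ k := fun a k y => map_pow _ _ _
  have hrk1 : ∀ a, ∀ y ∈ (pk (k + 1)).range, ψ a y ∈ (pk (k + 1)).range := by
    rintro a _ ⟨y, rfl⟩
    exact ⟨ψ a y, (hact a (k + 1) y).symm⟩
  have hncomm : ∀ {x y : R}, y ∉ P → x ∉ zpowers y ⊔ P → ⁅y, x⁆ ≠ 1 := by
    intro x y hy hx h1
    set K := zpowers y ⊔ P
    have hKn : K.Normal := ⟨fun t ht g => by
      have h2 : g * t * g⁻¹ = ⁅g, t⁆ * t := by rw [commutatorElement_def]; group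
      rw [h2]; exact mul_mem (mem_sup_right (hcomm g t)) ht⟩
    have hK : K.index = p := hidx2 K
      (lt_of_le_of_ne le_sup_right fun e => hy (e ▸ mem_sup_left (mem_zpowers y)))
      fun e => hx (e ▸ mem_top _)
    have hall : ∀ g : R, g ∈ closure ({x, y} ∪ (P : Set R)) := by
      intro g
      obtain ⟨i, k', hk', rfl⟩ := exists_pow_mul hR hK hx g
      exact mul_mem (pow_mem (Subgroup.subset_closure (Set.mem_union_left _ (Set.mem_insert x {y}))) i)
        ((sup_le (zpowers_le.2 (Subgroup.subset_closure (Set.mem_union_left _ (Set.mem_insert_of_mem x (Set.mem_singleton y)))))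
          (fun t ht => Subgroup.subset_closure (Or.inr ht)) : K ≤ _) hk')
    have hcc : IsMulCommutative (closure ({x, y} ∪ (P : Set R))) := by
      refine isMulCommutative_closure fun u hu v hv => ?_
      have hyx : y * x = x * y := commutatorElement_eq_one_iff_mul_comm.1 h1
      rcases hu with (rfl | rfl) | hu
      · rcases hv with (rfl | rfl) | hv
        · rfl
        · exact hyx.symm
        · exact mem_center_iff.1 (hP hv) _
      · rcases hv with (rfl | rfl) | hv
        · exact hyx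
        · rfl
        · exact mem_center_iff.1 (hP hv) _
      · exact (mem_center_iff.1 (hP hu) _).symm
    exact hne (commutatorElement_eq_one_iff_mul_comm.2
      (congrArg Subtype.val (hcc.is_comm.comm (⟨a₀, hall a₀⟩ : closure ({x, y} ∪ (P : Set R)))
        ⟨b₀, hall b₀⟩)))
  have hpwL : ∀ (L : Subgroup R), L.Normal → ∀ {y : R}, y ∉ P → y ∈ L → P ≤ L → L.index = p →
      ∀ l ∈ L, ∃ t : ℕ, ∃ φ ∈ P, l = y ^ t * φ := by
    intro L hLn y hy hyL hPL hL l hl
    have hKL : zpowers y ⊔ P = L := by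
      refine eq_of_le_of_card_ge (sup_le (zpowers_le.2 hyL) hPL) ?_
      have hne' : zpowers y ⊔ P ≠ ⊤ := fun e => by
        have h1 : L = ⊤ := top_le_iff.1 (e ▸ sup_le (zpowers_le.2 hyL) hPL)
        rw [h1, index_top] at hL
        exact hp.out.one_lt.ne hL
      have h1 := hidx2 _ (lt_of_le_of_ne le_sup_right fun e => hy (e ▸ mem_sup_left (mem_zpowers y))) hne'
      exact (Nat.eq_of_mul_eq_mul_right hp.out.pos (by
        conv_lhs => rw [← hL, card_mul_index]
        rw [← h1, card_mul_index])).le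
    obtain ⟨u, hu, φ, hφ, rfl⟩ := mem_sup_of_normal_right.1 (hKL.symm ▸ hl : l ∈ zpowers y ⊔ P)
    obtain ⟨t, rfl⟩ := mem_powers_iff_mem_zpowers.2 hu
    exact ⟨t, φ, hφ, rfl⟩
  set K := (zpowers c ⊔ (pk (k + 1)).range).comap (pk k) with hKdef
  have hPK : P ≤ K := by
    rintro _ ⟨y, rfl⟩
    refine mem_comap.2 (mem_sup_right ⟨y, ?_⟩)
    rw [hπ, hpk, hpk, ← pow_mul, ← pow_succ']
  have hwK : w ∈ K := mem_comap.2 (mem_sup_left (by rw [hpk, hw]; exact mem_zpowers c))
  have hKn : K.Normal := ⟨fun t ht g => by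
    have h2 : g * t * g⁻¹ = ⁅g, t⁆ * t := by rw [commutatorElement_def]; group
    rw [h2]; exact mul_mem (hPK (hcomm g t)) ht⟩
  have hzero : ∀ a, ∀ φ ∈ P, ∀ j : ℕ, ψ a c = c ^ j * φ ^ p ^ k → ψ a c = c ^ j := by
    intro a φ hφ j h
    have hmem : φ ^ p ^ k ∈ zpowers c := by
      have := hac a
      rw [h] at this
      exact (Subgroup.mul_mem_cancel_left _ (pow_mem (mem_zpowers c) j)).1 this
    rw [h, hdeep φ hφ hmem, mul_one]
  have hapow : ∀ a, ∀ {e : R} {j : ℕ}, ψ a c = c ^ j → e ∈ zpowers c → ψ a e = e ^ j := by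
    intro a e j h he
    obtain ⟨m, rfl⟩ := mem_powers_iff_mem_zpowers.2 he
    rw [map_pow, h, ← pow_mul, ← pow_mul, mul_comm]
  by_cases hK : K = ⊤
  · -- the powers land in `⟨c⟩`
    have hsmall : ∀ y : R, y ^ p ^ (k + 1) = 1 := by
      have key : ∀ m : ℕ, ∀ y : R, ∃ y', y ^ p ^ (k + 1) = y' ^ p ^ (k + 1 + m) := by
        intro m
        induction m with
        | zero => exact fun y => ⟨y, rfl⟩
        | succ m ih =>
          intro y
          obtain ⟨y', hy'⟩ := ih y
          obtain ⟨u, hu, _, ⟨v, rfl⟩, huv⟩ :=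
            (mem_sup_of_normal_left (s := zpowers c)).1 (hK.ge (mem_top y') : y' ∈ K)
          refine ⟨v, hy'.trans ?_⟩
          simp only [hpk] at huv
          obtain ⟨r, rfl⟩ := mem_powers_iff_mem_zpowers.2 hu
          rw [show k + 1 + m = k + (m + 1) by omega, pow_add, pow_mul, ← huv, hmul, ← pow_mul c,
            mul_comm r, pow_mul c, show c ^ p ^ (m + 1) = 1 by
              rw [pow_succ', pow_mul, hexp, one_pow], one_pow, one_mul, ← pow_mul, ← pow_add]
      intro y
      obtain ⟨y', hy'⟩ := key n y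
      rw [hy', pow_add, mul_comm, pow_mul, ← hn, pow_card_eq_one', one_pow]
    have hsub : ∀ y : R, y ^ p ^ k ∈ zpowers c := fun y => by
      obtain ⟨u, hu, _, ⟨v, rfl⟩, huv⟩ :=
        (mem_sup_of_normal_left (s := zpowers c)).1 (hK.ge (mem_top y) : y ∈ K)
      rw [hpk, hpk, hsmall, mul_one] at huv
      exact huv ▸ hu
    set L := (pk k).ker with hLdef
    have hPL : P ≤ L := by
      rintro _ ⟨y, rfl⟩
      rw [hLdef, MonoidHom.mem_ker, hpk, hπ, ← pow_mul, ← pow_succ', hsmall]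
    have hLi : L.index = p := by
      rw [hLdef, index_ker]
      rw [show (pk k).range = zpowers c from le_antisymm
        (by rintro _ ⟨y, rfl⟩; exact hsub y) (zpowers_le.2 ⟨w, hw⟩), Nat.card_zpowers, hco]
    obtain ⟨l, hlL, hlP⟩ : ∃ l ∈ L, l ∉ P := by
      by_contra h
      push Not at h
      have hLP : L = P := le_antisymm h hPL
      obtain ⟨g, -⟩ := (⟨w, trivial⟩ : ∃ g : R, True)
      have hw' : w ∉ zpowers (1 : R) ⊔ P := by rwa [zpowers_one_eq_bot, bot_sup_eq]
      have hPn' : P.index = p := hLP ▸ hLi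
      -- a cyclic quotient by a central subgroup
      obtain ⟨i, x, hx, e1⟩ := exists_pow_mul hR hPn' hwP a₀
      obtain ⟨j, y, hy, e2⟩ := exists_pow_mul hR hPn' hwP b₀
      apply hne
      rw [hc, e1, e2]
      have := comm_pow_mul (w := w) (x := w) hcom (hP hy) (hP hx) j i 0
      rw [pow_zero, mul_one, commutatorElement_self, one_pow] at this
      exact this
    have hwL : w ∉ L := fun h => hne (by rw [hLdef, MonoidHom.mem_ker, hpk, hw] at h; exact h)
    have hne' : ⁅l, w⁆ ≠ 1 := hncomm hlP fun h => hwL ((sup_le (zpowers_le.2 hlL) hPL) h)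
    have hfix : ∀ a, l⁻¹ * ψ a l ∈ P := by
      intro a
      have hal : ψ a l ∈ L := by
        rw [hLdef, MonoidHom.mem_ker, hpk, ← hact, show l ^ p ^ k = 1 from hlL, map_one]
      obtain ⟨j, φ', hφ', ej⟩ := hpwL L inferInstance hlP hlL hPL hLi _ hal
      obtain ⟨i, l', hl', ei⟩ := exists_pow_mul hR hLi hwL (ψ a w)
      obtain ⟨t, φ, hφ, et⟩ := hpwL L inferInstance hlP hlL hPL hLi _ hl'
      have hci : ψ a c = c ^ i := by
        rw [← hw, hact, ei, hmul, show l' ^ p ^ k = 1 from hl', mul_one, ← pow_mul, mul_comm, pow_mul]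
      have h1 : ψ a ⁅l, w⁆ = ⁅l, w⁆ ^ (i * j) := by
        rw [map_commutatorElement, ej, ei, et, ← mul_assoc]
        exact comm_pow_mul hcom (hP hφ) (hP hφ') i j t
      rw [hapow a hci (hD l w)] at h1
      have hord : orderOf ⁅l, w⁆ = p := orderOf_eq_prime (hexp _ _) hne'
      have hjmod : j ≡ 1 [MOD p] := modEq_one_of_pow_eq hord (j := i) (fun e => hne' (by
        rw [← map_eq_one_iff (ψ a) (ψ a).injective, hapow a hci (hD l w), e]))
        (by rw [mul_comm]; exact h1.symm)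
      rw [ej, ← mul_assoc]
      exact mul_mem (inv_mul_pow_mem (hxP l) hjmod) hφ'
    let _ : CommGroup (R ⧸ P) :=
      { (inferInstance : Group (R ⧸ P)) with
        mul_comm := fun a b => by
          induction a using QuotientGroup.induction_on with
          | _ a =>
            induction b using QuotientGroup.induction_on with
            | _ b =>
              rw [← commutatorElement_eq_one_iff_mul_comm]
              show QuotientGroup.mk' P ⁅a, b⁆ = 1
              exact (QuotientGroup.eq_one_iff _).2 (hcomm a b) }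
    refine closure_ne_top_of_fixed ((quotChar P).comp ψ) (v := (l : R ⧸ P))
      (fun e => hlP ((QuotientGroup.eq_one_iff l).1 e)) (fun a => (QuotientGroup.eq.2 (hfix a)).symm) ?_
      (hgen.quotient P)
    refine Nat.Coprime.coprime_dvd_right (orderOf_dvd_of_pow_eq_one ?_) hA
    rw [← QuotientGroup.mk_pow, QuotientGroup.eq_one_iff]
    exact hxP l
  · have hKi : K.index = p := hidx2 K (lt_of_le_of_ne hPK fun e => hwP (e ▸ hwK)) hK
    obtain ⟨x, hx⟩ : ∃ x, x ∉ K := by
      by_contra h; push Not at h; exact hK ((eq_top_iff' K).2 h)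
    have hne' : ⁅w, x⁆ ≠ 1 := hncomm hwP fun h => hx ((sup_le (zpowers_le.2 hwK) hPK) h)
    have hinv : ∀ a, ∀ y ∈ K, ψ a y ∈ K := by
      intro a y hy
      rw [hKdef, mem_comap, mem_sup_of_normal_left] at hy ⊢
      obtain ⟨u, hu, v, hv, huv⟩ := hy
      obtain ⟨r, rfl⟩ := mem_powers_iff_mem_zpowers.2 hu
      refine ⟨ψ a (c ^ r), by rw [map_pow]; exact pow_mem (hac a) r, ψ a v, hrk1 a v hv, ?_⟩
      rw [← map_mul, huv, hpk, hpk, hact]
    refine hgen.false_of_fix hK (exists_pow_mul hR hKi hx) hinv fun a => ?_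
    obtain ⟨j, φ', hφ', ej⟩ := hpwL K hKn hwP hwK hPK hKi _ (hinv a w hwK)
    obtain ⟨i, k', hk', ei⟩ := exists_pow_mul hR hKi hx (ψ a x)
    obtain ⟨t, φ, hφ, et⟩ := hpwL K hKn hwP hwK hPK hKi _ hk'
    have hcj : ψ a c = c ^ j := hzero a φ' hφ' j (by
      conv_lhs => rw [← hw]
      rw [hact, ej, hmul, ← pow_mul, mul_comm, pow_mul, hw])
    have h1 : ψ a ⁅w, x⁆ = ⁅w, x⁆ ^ (i * j) := by
      rw [map_commutatorElement, ej, ei, et, ← mul_assoc]
      exact comm_pow_mul hcom (hP hφ) (hP hφ') i j t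
    rw [hapow a hcj (hD w x)] at h1
    have hord : orderOf ⁅w, x⁆ = p := orderOf_eq_prime (hexp _ _) hne'
    have himod : i ≡ 1 [MOD p] := modEq_one_of_pow_eq hord (fun e => hne' (by
      rw [← map_eq_one_iff (ψ a) (ψ a).injective, hapow a hcj (hD w x), e])) h1.symm
    rw [ei, ← mul_assoc]
    exact mul_mem (inv_mul_pow_mem (hPK (hxP x)) himod) hk'

/-- With at most `p ^ 2` elements of order dividing `p`, such a group is abelian. -/
theorem abelian_of_small [Finite A] (hp5 : 5 ≤ p) (hA : (Nat.card A).Coprime p) :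
    ∀ (n : ℕ) (R : Type u) [Group R] [Finite R], Nat.card R = n → IsPGroup p R →
      Nat.card {x : R // x ^ p = 1} ≤ p ^ 2 → ∀ ψ : A →* MulAut R, Generates ψ →
      ∀ a b : R, a * b = b * a := by
  intro n
  induction n using Nat.strong_induction_on with
  | _ n ih =>
    intro R _ _ hn hR hsm ψ hgen
    by_contra hnc
    push Not at hnc
    obtain ⟨a₀, b₀, hne0⟩ := hnc
    have hne : ⁅a₀, b₀⁆ ≠ 1 := fun e => hne0 (commutatorElement_eq_one_iff_mul_comm.1 e)
    have hr : PRankLE p 2 R := pRankLE_iff.2 fun B hB => (Nat.card_le_card_of_injective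
      (fun b : B => (⟨b, hB.2 b b.2⟩ : {x : R // x ^ p = 1}))
      fun b c h => Subtype.ext (congrArg (fun t : {x : R // x ^ p = 1} => (t : R)) h)).trans hsm
    set U := omegaSet p hp5 hR hr with hUdef
    have hUc : U.Characteristic := omegaSet_characteristic hp5 hR hr
    have hU2 : Nat.card U ≤ p ^ 2 :=
      le_of_eq_of_le (Nat.card_congr (Equiv.subtypeEquivRight fun _ => mem_omegaSet)) hsm
    have hU1 : U ≠ ⊥ := by
      have htop : (⊤ : Subgroup R) ≠ ⊥ := fun e => hne (mem_bot.1 (e ▸ mem_top _))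
      obtain ⟨z, -, hz⟩ := exists_orderOf_eq hR htop
      intro e
      have : z ∈ U := mem_omegaSet.2 (hz ▸ pow_orderOf_eq_one z)
      rw [e, mem_bot] at this
      rw [this, orderOf_one] at hz
      exact hp.out.one_lt.ne hz
    have hlt : Nat.card (R ⧸ U) < n := by
      rw [← index_eq_card, ← hn, ← card_mul_index U]
      exact lt_mul_of_one_lt_left (Nat.pos_of_ne_zero index_ne_zero_of_finite) ((one_lt_card_iff_ne_bot U).2 hU1)
    have hout : ∀ q : R ⧸ U, q ^ p = 1 → q.out ^ p ∈ U := fun q hq => by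
      rw [← QuotientGroup.eq_one_iff, QuotientGroup.mk_pow, QuotientGroup.out_eq', hq]
    have hsm' : Nat.card {q : R ⧸ U // q ^ p = 1} ≤ p ^ 2 := by
      refine (Nat.card_le_card_of_injective
        (fun q : {q : R ⧸ U // q ^ p = 1} => (⟨q.1.out ^ p, hout q.1 q.2⟩ : U)) fun q q' h => ?_).trans hU2
      have h1 : (q.1.out⁻¹ * q'.1.out) ^ p = 1 :=
        eq_pow_imp hp5 _ R rfl hR hr _ _ (congrArg Subtype.val h)
      refine Subtype.ext ?_
      rw [← QuotientGroup.out_eq' q.1, ← QuotientGroup.out_eq' q'.1]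
      exact QuotientGroup.eq.2 (mem_omegaSet.2 h1)
    have hQ := ih _ hlt (R ⧸ U) rfl (hR.to_quotient U) hsm' ((quotChar U).comp ψ) (hgen.quotient U)
    have hcomm : ∀ a b : R, ⁅a, b⁆ ∈ U := fun a b => by
      rw [← QuotientGroup.eq_one_iff, ← QuotientGroup.mk'_apply, map_commutatorElement,
        commutatorElement_eq_one_iff_mul_comm]
      exact hQ _ _
    have hUp : ∀ u ∈ U, u ^ p = 1 := fun u hu => mem_omegaSet.1 hu
    obtain ⟨hUS, -⟩ := small_normal hR U hU2
    have hmul : ∀ x y : R, (x * y) ^ p = x ^ p * y ^ p := mul_pow_prime hp5 hUp hcomm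
      fun u hu g => hUS (commutator_mem_commutator hu (mem_top g))
    let π : R →* R := MonoidHom.mk' (fun x => x ^ p) hmul
    have hπ : ∀ x, π x = x ^ p := fun x => rfl
    have hP : π.range ≤ center R := by
      rintro _ ⟨x, rfl⟩
      refine mem_center_iff.2 fun g => ?_
      have h1 : g * x * g⁻¹ = x * ⁅x⁻¹, g⁆ := by rw [commutatorElement_def]; group
      have h2 := conj_pow (i := p) (a := g) (b := x)
      rw [h1, hmul, hUp _ (hcomm _ _), mul_one] at h2
      show g * x ^ p = x ^ p * g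
      exact eq_mul_inv_iff_mul_eq.1 h2 |>.symm
    have hker : π.ker = U := by ext x; exact mem_omegaSet.symm
    have hidx : π.range.index ≤ p ^ 2 := by
      have h1 := card_mul_index U
      rw [show U.index = Nat.card π.range by rw [← hker, index_ker], mul_comm,
        ← card_mul_index π.range] at h1
      rw [← Nat.eq_of_mul_eq_mul_left Nat.card_pos h1]
      exact hU2
    suffices hcP : ∀ a b : R, ⁅a, b⁆ ∈ π.range from
      false_of_central_powers hR hA hgen π hπ hP hidx hcP (fun a b => hUp _ (hcomm a b)) hne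
    by_cases hUP : U ≤ π.range
    · exact fun a b => hUP (hcomm a b)
    have hple : ∀ H : Subgroup R, H < U → Nat.card H ≤ p := fun H hH => by
      obtain ⟨a, ha⟩ := (hR.to_subgroup H).exists_card_eq
      obtain ⟨b, hb⟩ := (hR.to_subgroup U).exists_card_eq
      have h1 : Nat.card H < Nat.card U :=
        lt_of_le_of_ne (card_le_of_le hH.le) fun e => hH.ne (eq_of_le_of_card_ge hH.le e.ge)
      rw [ha, hb] at h1
      rw [hb] at hU2
      have := (Nat.pow_lt_pow_iff_right hp.out.one_lt).1 h1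
      have := (Nat.pow_le_pow_iff_right hp.out.one_lt).1 hU2
      rw [ha]
      calc p ^ a ≤ p ^ 1 := Nat.pow_le_pow_right hp.out.pos (by omega)
        _ = p := pow_one p
    have hUP' : Nat.card ↥(U ⊓ π.range) ≤ p := hple _ (lt_of_le_of_ne inf_le_left fun e => hUP (e ▸ inf_le_right))
    have hcyc : IsCyclic π.range := by
      refine CfsgLib.OddLocal.Ten.isCyclic_of_pRankLE_one (hR.to_subgroup _) (by omega)
        ((pRankLE_subgroup_iff _).2 fun B hBP hB => ?_)
      rw [pow_one]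
      exact (card_le_of_le (le_inf (fun b hb => mem_omegaSet.2 (hB.2 b hb)) hBP)).trans hUP'
    have hUnc : ¬ U ≤ center R := fun h => hne0 <|
      (MonoidHom.isMulCommutative_of_isCyclic_of_ker_le_center π.rangeRestrict
        (by rw [MonoidHom.ker_rangeRestrict, hker]; exact h)).is_comm.comm a₀ b₀
    have hPne : U ⊓ π.range ≠ ⊥ := by
      intro e
      have hbot : π.range = ⊥ := by
        by_contra hb
        obtain ⟨z, hz, hzo⟩ := exists_orderOf_eq hR hb
        have hmem : z ∈ U ⊓ π.range := ⟨mem_omegaSet.2 (hzo ▸ pow_orderOf_eq_one z), hz⟩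
        rw [e, mem_bot] at hmem
        rw [hmem, orderOf_one] at hzo
        exact hp.out.one_lt.ne hzo
      have hUtop : U = ⊤ := by
        rw [eq_top_iff]
        intro x _
        refine mem_omegaSet.2 ?_
        have hx : π x ∈ π.range := ⟨x, rfl⟩
        rw [hbot, mem_bot] at hx
        exact hx
      obtain ⟨b, hb⟩ := hR.exists_card_eq
      rw [hUtop, card_top, hb] at hU2
      have hb2 := (Nat.pow_le_pow_iff_right hp.out.one_lt).1 hU2
      apply hne0
      rcases (show b = 0 ∨ b = 1 ∨ b = 2 by omega) with rfl | rfl | rfl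
      · have : Subsingleton R := (Nat.card_eq_one_iff_unique.1 (by rw [hb, pow_zero])).1
        exact Subsingleton.elim _ _
      · have : IsCyclic R := isCyclic_of_prime_card (p := p) (by rw [hb, pow_one])
        exact IsCyclic.isMulCommutative.is_comm.comm a₀ b₀
      · exact (IsPGroup.isMulCommutative_of_card_eq_prime_sq hb).is_comm.comm a₀ b₀
    have hUPc : U ⊓ π.range = U ⊓ center R := by
      refine eq_of_le_of_card_ge (le_inf inf_le_left (inf_le_right.trans hP)) ?_
      refine (hple _ (lt_of_le_of_ne inf_le_left fun e => hUnc (e ▸ inf_le_right))).trans ?_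
      exact Nat.le_of_dvd Nat.card_pos (dvd_card_of_ne_bot hR hPne)
    set S := ⁅U, (⊤ : Subgroup R)⁆ with hS
    have hSU : S ≤ U ⊓ center R := le_inf (commutator_le_left _ _) hUS
    let πb : R ⧸ S →* π.range := QuotientGroup.lift S π.rangeRestrict fun s hs => by
      rw [MonoidHom.ker_rangeRestrict, hker]
      exact (hSU hs).1
    have hab : IsMulCommutative (R ⧸ S) := MonoidHom.isMulCommutative_of_isCyclic_of_ker_le_center πb (by
      intro q hq
      induction q using QuotientGroup.induction_on with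
      | _ q =>
        have hq' : q ∈ U := by
          rw [← hker]
          exact congrArg Subtype.val (MonoidHom.mem_ker.1 hq)
        refine mem_center_iff.2 fun g => ?_
        induction g using QuotientGroup.induction_on with
        | _ g =>
          refine (commutatorElement_eq_one_iff_mul_comm.1 ?_).symm
          show QuotientGroup.mk' S ⁅q, g⁆ = 1
          exact (QuotientGroup.eq_one_iff _).2 (commutator_mem_commutator hq' (mem_top g)))
    intro a b
    have h1 : ⁅a, b⁆ ∈ S := by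
      rw [← QuotientGroup.eq_one_iff, ← QuotientGroup.mk'_apply, map_commutatorElement,
        commutatorElement_eq_one_iff_mul_comm]
      exact hab.is_comm.comm _ _
    exact (hUPc.symm ▸ hSU h1 : ⁅a, b⁆ ∈ U ⊓ π.range).2

/-- With more than `p ^ 2` elements of order dividing `p`: the extraspecial case. -/
theorem extraspecial_structure [Finite A] (hp5 : 5 ≤ p) (hR : IsPGroup p R) (hr : PRankLE p 2 R)
    (hodd : Odd (Nat.card A)) {ψ : A →* MulAut R} (hgen : Generates ψ)
    (hbig : ¬ Nat.card {x : R // x ^ p = 1} ≤ p ^ 2) :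
    ∃ R₁ R₂ : Subgroup R, R₁ ⊔ R₂ = ⊤ ∧ (∀ a ∈ R₁, ∀ b ∈ R₂, a * b = b * a) ∧
      ¬ IsMulCommutative R₁ ∧ Nat.card R₁ = p ^ 3 ∧ Monoid.exponent R₁ = p ∧ IsCyclic R₂ ∧
      closure {x : R | x ∈ R₂ ∧ x ^ p = 1} = ⁅R₁, R₁⁆ := by
  set E := omegaSet p hp5 hR hr with hEdef
  have hEc : E.Characteristic := omegaSet_characteristic hp5 hR hr
  have hEp : ∀ y ∈ E, y ^ p = 1 := fun y hy => mem_omegaSet.1 hy
  have hE3 : Nat.card E = p ^ 3 := by
    obtain ⟨a, ha⟩ := (hR.to_subgroup E).exists_card_eq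
    have h2 := ha ▸ card_omegaSet hp5 hR hr
    have h1 : ¬ p ^ a ≤ p ^ 2 := fun h => hbig
      (le_of_eq_of_le ((Nat.card_congr (Equiv.subtypeEquivRight fun _ => mem_omegaSet.symm)).trans ha) h)
    have ha3 := (Nat.pow_le_pow_iff_right hp.out.one_lt).1 h2
    have ha2 : ¬ a ≤ 2 := fun h => h1 (Nat.pow_le_pow_right hp.out.pos h)
    rw [ha, show a = 3 by omega]
  have hEnc : ¬ IsMulCommutative E := fun h => by
    have := pRankLE_iff.1 hr E (isElementaryAbelian_mk
      (fun a ha b hb => congrArg Subtype.val (h.is_comm.comm (⟨a, ha⟩ : E) ⟨b, hb⟩)) hEp)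
    rw [hE3] at this
    exact (Nat.pow_lt_pow_right hp.out.one_lt (by norm_num)).not_ge this
  set C := centralizer (E : Set R) with hCdef
  set Z := E ⊓ C with hZdef
  have hZn : Z.Normal := inferInstance
  have hcomE : ∀ {g : R}, g ∈ C → ∀ y ∈ E, y * g = g * y := fun hg y hy => mem_centralizer_iff.1 hg y hy
  obtain ⟨e₁, he₁, he₁Z⟩ : ∃ e ∈ E, e ∉ Z := by
    by_contra h
    push Not at h
    exact hEnc ⟨⟨fun a b => Subtype.ext (hcomE (h b b.2).2 a a.2)⟩⟩
  have hZe : IsElementaryAbelian p Z :=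
    isElementaryAbelian_mk (fun a ha b hb => hcomE hb.2 a ha.1) fun a ha => hEp a ha.1
  have hLe : ∀ {e : R}, e ∈ E → IsElementaryAbelian p (zpowers e ⊔ Z : Subgroup R) := fun he =>
    elemAb_sup (elemAb_zpowers (hEp _ he)) hZe fun a ha b hb => hcomE hb.2 a (zpowers_le.2 he ha)
  have hcardlt : ∀ {H K : Subgroup R}, H < K → Nat.card H < Nat.card K := fun {H K} h =>
    lt_of_le_of_ne (card_le_of_le h.le) fun e => h.ne (eq_of_le_of_card_ge h.le e.ge)
  have hpow : ∀ {H K : Subgroup R}, H < K → Nat.card K ≤ p ^ 2 → Nat.card H ≤ p := by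
    intro H K hHK hK
    obtain ⟨a, ha⟩ := (hR.to_subgroup H).exists_card_eq
    obtain ⟨b, hb⟩ := (hR.to_subgroup K).exists_card_eq
    have h1 := hcardlt hHK
    rw [ha, hb] at h1
    rw [hb] at hK
    have := (Nat.pow_lt_pow_iff_right hp.out.one_lt).1 h1
    have := (Nat.pow_le_pow_iff_right hp.out.one_lt).1 hK
    rw [ha]
    calc p ^ a ≤ p ^ 1 := Nat.pow_le_pow_right hp.out.pos (by omega)
      _ = p := pow_one p
  have hE1 : E ≠ ⊥ := fun e => he₁Z (by
    rw [e, mem_bot] at he₁; rw [he₁]; exact one_mem _)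
  have hEcen : E ⊓ center R ≤ Z := inf_le_inf_left _ (center_le_centralizer _)
  have hZc : Nat.card Z = p := by
    refine le_antisymm (hpow (K := zpowers e₁ ⊔ Z) (lt_of_le_of_ne le_sup_right fun e =>
      he₁Z (e ▸ mem_sup_left (mem_zpowers e₁))) (pRankLE_iff.1 hr _ (hLe he₁))) ?_
    exact Nat.le_of_dvd Nat.card_pos (dvd_card_of_ne_bot hR fun e => inf_center_ne_bot hR E hE1
      (le_bot_iff.1 (hEcen.trans e.le)))
  have hZcen : Z ≤ center R := le_center_of_card_eq hR Z hZc
  have hZelem : ∀ {z : R}, z ∈ Z → z ≠ 1 → zpowers z = Z := fun {z} hz hz1 =>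
    eq_of_le_of_card_ge (zpowers_le.2 hz) (by rw [Nat.card_zpowers, orderOf_eq_prime (hEp z hz.1) hz1, hZc])
  have hEE : ⁅E, E⁆ = Z := by
    have hle : ⁅E, E⁆ ≤ Z := commutator_le.2 fun a ha b hb => by
      have hcen := CfsgLib.OddLocal.Ten.center_eq_commutator_of_card_cube hE3 hEnc
      have hmem : ⁅(⟨a, ha⟩ : E), ⟨b, hb⟩⁆ ∈ center E := by
        rw [hcen, _root_.commutator_def]; exact commutator_mem_commutator (mem_top _) (mem_top _)
      refine ⟨commutator_le_left E E (commutator_mem_commutator ha hb),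
        mem_centralizer_iff.2 fun y hy => ?_⟩
      exact congrArg Subtype.val (mem_center_iff.1 hmem ⟨y, hy⟩)
    refine eq_of_le_of_card_ge hle (hZc.le.trans (Nat.le_of_dvd Nat.card_pos (dvd_card_of_ne_bot hR ?_)))
    intro h
    exact hEnc ⟨⟨fun a b => Subtype.ext (mem_centralizer_iff.1
      ((commutator_eq_bot_iff_le_centralizer.1 h) b.2) a a.2)⟩⟩
  have hclosC : closure {x : R | x ∈ C ∧ x ^ p = 1} = Z :=
    le_antisymm ((closure_le _).2 fun x hx => ⟨mem_omegaSet.2 hx.2, hx.1⟩)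
      fun x hx => Subgroup.subset_closure ⟨hx.2, hEp x hx.1⟩
  have hCcyc : IsCyclic C := CfsgLib.OddLocal.Ten.isCyclic_of_pRankLE_one (hR.to_subgroup C) (by omega)
    ((pRankLE_subgroup_iff C).2 fun B hB hBe => by
      rw [pow_one, ← hZc]
      exact card_le_of_le fun b hb => ⟨mem_omegaSet.2 (hBe.2 b hb), hB hb⟩)
  have hexp : Monoid.exponent E = p := by
    refine ((Nat.dvd_prime hp.out).1 (Monoid.exponent_dvd_of_forall_pow_eq_one fun y : E =>
      Subtype.ext (by rw [Subgroup.coe_pow, Subgroup.coe_one]; exact hEp y y.2))).resolve_left fun h => ?_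
    have := Monoid.pow_exponent_eq_one (⟨e₁, he₁⟩ : E)
    rw [h, pow_one] at this
    exact he₁Z (by rw [show e₁ = 1 from congrArg Subtype.val this]; exact one_mem _)
  suffices htop : E ⊔ C = ⊤ from
    ⟨E, C, htop, fun a ha b hb => hcomE hb a ha, hEnc, hE3, hexp, hCcyc, hclosC.trans hEE.symm⟩
  set U := ⁅E, (⊤ : Subgroup R)⁆ with hUdef
  have hUE : U ≤ E := commutator_le_left _ _
  have hUlt : U < E := commutator_top_lt hR E hE1
  have hU2 : Nat.card U ≤ p ^ 2 := by
    obtain ⟨a, ha⟩ := (hR.to_subgroup U).exists_card_eq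
    have h1 := hcardlt hUlt
    rw [ha, hE3] at h1
    have := (Nat.pow_lt_pow_iff_right hp.out.one_lt).1 h1
    rw [ha]
    exact Nat.pow_le_pow_right hp.out.pos (by omega)
  have hcU : ∀ y ∈ E, ∀ g : R, ⁅y, g⁆ ∈ U ∧ ⁅g, y⁆ ∈ U := fun y hy g => by
    have h := commutator_mem_commutator hy (mem_top g)
    exact ⟨h, by rw [← commutatorElement_inv]; exact inv_mem h⟩
  by_cases hUZ : U ≤ Z
  · -- the inner automorphisms of `E` suffice
    set L := zpowers e₁ ⊔ Z with hL
    have hLlt : L < E := by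
      refine lt_of_le_of_ne (sup_le (zpowers_le.2 he₁) inf_le_left) fun e => ?_
      have := pRankLE_iff.1 hr _ (hLe he₁)
      rw [← hL, e, hE3] at this
      exact (Nat.pow_lt_pow_right hp.out.one_lt (by norm_num)).not_ge this
    obtain ⟨e₂, he₂, he₂L⟩ := SetLike.exists_of_lt hLlt
    have hcen : ∀ e ∈ E, ∀ g : R, ⁅g, e⁆ ∈ center R := fun e he g => hZcen (hUZ (hcU e he g).2)
    let f : R →* Z × Z := MonoidHom.mk'
      (fun g => (⟨⁅g, e₁⁆, hUZ (hcU e₁ he₁ g).2⟩, ⟨⁅g, e₂⁆, hUZ (hcU e₂ he₂ g).2⟩))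
      fun a b => Prod.ext (Subtype.ext (comm_mul_left (hcen e₁ he₁ b)))
        (Subtype.ext (comm_mul_left (hcen e₂ he₂ b)))
    have hker : f.ker ≤ C := by
      intro g hg
      obtain ⟨h1, h2⟩ := Prod.ext_iff.1 hg
      have c1 := commutatorElement_eq_one_iff_mul_comm.1 (congrArg Subtype.val h1)
      have c2 := commutatorElement_eq_one_iff_mul_comm.1 (congrArg Subtype.val h2)
      have hL' : L ≤ E ⊓ centralizer ({g} : Set R) := le_inf hLlt.le (sup_le
        (zpowers_le.2 (mem_centralizer_singleton_iff.2 c1.symm))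
        fun z hz => mem_centralizer_singleton_iff.2 (mem_center_iff.1 (hZcen hz) g).symm)
      have hlt : L < E ⊓ centralizer ({g} : Set R) := lt_of_le_of_ne hL' fun e =>
        he₂L (e ▸ ⟨he₂, mem_centralizer_singleton_iff.2 c2.symm⟩)
      have hEg : E ⊓ centralizer ({g} : Set R) = E := by
        by_contra hne
        have h3 := hcardlt (lt_of_le_of_ne inf_le_left hne)
        obtain ⟨a, ha⟩ := (hR.to_subgroup (E ⊓ centralizer ({g} : Set R))).exists_card_eq
        rw [ha, hE3] at h3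
        have h4 := (Nat.pow_lt_pow_iff_right hp.out.one_lt).1 h3
        have h5 := hpow hlt (by rw [ha]; exact Nat.pow_le_pow_right hp.out.pos (by omega))
        rw [← hZc] at h5
        exact he₁Z ((eq_of_le_of_card_ge (le_sup_right : Z ≤ L) h5).symm ▸ mem_sup_left (mem_zpowers e₁))
      exact mem_centralizer_iff.2 fun y hy => mem_centralizer_singleton_iff.1 (hEg.ge hy).2
    have h1 : C.index ≤ p ^ 2 := by
      refine (Nat.le_of_dvd (Nat.pos_of_ne_zero index_ne_zero_of_finite) (index_dvd_of_le hker)).trans ?_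
      rw [index_ker]
      refine (Nat.card_le_card_of_injective _ Subtype.val_injective).trans ?_
      rw [Nat.card_prod, hZc, pow_two]
    have h2 : C.relIndex E = p ^ 2 := by
      refine Nat.eq_of_mul_eq_mul_left hp.out.pos ?_
      rw [← inf_relIndex_left, ← hZdef]
      conv_lhs => rw [← hZc]
      rw [← relIndex_bot_left, relIndex_mul_relIndex ⊥ Z E bot_le inf_le_left, relIndex_bot_left, hE3]
      ring
    have h3 := relIndex_mul_index (le_sup_right : C ≤ E ⊔ C)
    rw [relIndex_sup_right, h2] at h3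
    rw [← h3] at h1
    have h4 : (E ⊔ C).index ≠ 0 := index_ne_zero_of_finite
    have h5 := Nat.le_of_mul_le_mul_left (h1.trans_eq (mul_one (p ^ 2)).symm) (pow_pos hp.out.pos 2)
    exact index_eq_one.1 (by omega)
  -- the other case contradicts generation
  exfalso
  obtain ⟨hUG, -⟩ := small_normal hR U hU2
  have hUZ' : ∀ u ∈ U, ∀ g : R, ⁅u, g⁆ ∈ Z := fun u hu g =>
    hEcen ⟨hUE (commutator_le_left U (⊤ : Subgroup R) (commutator_mem_commutator hu (mem_top g))),
      hUG (commutator_mem_commutator hu (mem_top g))⟩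
  have hZU : Z ≤ U := hEE ▸ commutator_mono le_rfl le_top
  obtain ⟨u, huU, huZ⟩ := SetLike.not_le_iff_exists.1 hUZ
  have hUgen : zpowers u ⊔ Z = U := by
    refine eq_of_le_of_card_ge (sup_le (zpowers_le.2 huU) hZU) ?_
    by_contra hlt
    have h5 := hpow (lt_of_le_of_ne le_sup_right fun e => huZ (e ▸ mem_sup_left (mem_zpowers u)) :
      Z < zpowers u ⊔ Z) ((card_le_of_le (sup_le (zpowers_le.2 huU) hZU)).trans hU2)
    have h6 := hpow (lt_of_le_of_ne (sup_le (zpowers_le.2 huU) hZU) fun e => hlt (by rw [e])) hU2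
    rw [← hZc] at h6
    exact huZ ((eq_of_le_of_card_ge (le_sup_right : Z ≤ zpowers u ⊔ Z) h6).symm ▸
      mem_sup_left (mem_zpowers u))
  have hUcomm : ∀ a ∈ U, ∀ b ∈ U, a * b = b * a := fun a ha b hb =>
    elemAb_comm (hLe (hUE huU)) (hUgen.ge ha) (hUgen.ge hb)
  set M := centralizer (U : Set R) with hMdef
  have hcM : ∀ {g : R}, g ∈ M → ∀ y ∈ U, y * g = g * y := fun hg y hy => mem_centralizer_iff.1 hg y hy
  have hUM : U ≤ M := fun a ha => mem_centralizer_iff.2 fun b hb => hUcomm b hb a ha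
  have hCM : C ≤ M := centralizer_le hUE
  obtain ⟨e, heE, heU⟩ := SetLike.exists_of_lt hUlt
  have hEgen : zpowers e ⊔ U = E := by
    refine eq_of_le_of_card_ge (sup_le (zpowers_le.2 heE) hUE) ?_
    by_contra hlt
    have h6 : Nat.card ↥(zpowers e ⊔ U) ≤ p ^ 2 := by
      obtain ⟨a, ha⟩ := (hR.to_subgroup (zpowers e ⊔ U)).exists_card_eq
      have h7 : Nat.card ↥(zpowers e ⊔ U) < Nat.card E := not_le.1 hlt
      rw [ha, hE3] at h7
      have := (Nat.pow_lt_pow_iff_right hp.out.one_lt).1 h7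
      rw [ha]
      exact Nat.pow_le_pow_right hp.out.pos (by omega)
    have h7 := hpow (lt_of_le_of_ne le_sup_right fun h => heU (h ▸ mem_sup_left (mem_zpowers e)) :
      U < zpowers e ⊔ U) h6
    rw [← hZc] at h7
    exact huZ ((eq_of_le_of_card_ge hZU h7).symm ▸ huU)
  have hEcomm : ∀ g : R, g ∈ M → g * e = e * g → g ∈ C := fun g hg hge => mem_centralizer_iff.2 fun y hy => by
    have : E ≤ centralizer ({g} : Set R) := hEgen ▸ sup_le (zpowers_le.2 (mem_centralizer_singleton_iff.2 hge.symm))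
      fun b hb => mem_centralizer_singleton_iff.2 (hcM hg b hb)
    exact mem_centralizer_singleton_iff.1 (this hy)
  have heM : e ∉ M := fun h => heU (hZU ⟨heE, hEcomm e h rfl⟩)
  have hue : ⁅u, e⁆ ≠ 1 := fun h => huZ ⟨hUE huU,
    hEcomm u (hUM huU) (commutatorElement_eq_one_iff_mul_comm.1 h)⟩
  have hcenU : ∀ g : R, ⁅g, u⁆ ∈ center R := fun g => by
    rw [← commutatorElement_inv]; exact inv_mem (hZcen (hUZ' u huU g))
  let f : R →* Z := MonoidHom.mk'
    (fun g => ⟨⁅g, u⁆, by rw [← commutatorElement_inv]; exact inv_mem (hUZ' u huU g)⟩)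
    fun a b => Subtype.ext (comm_mul_left (hcenU b))
  have hfker : f.ker = M := by
    ext g
    rw [MonoidHom.mem_ker]
    refine ⟨fun h => mem_centralizer_iff.2 fun y hy => ?_, fun h => Subtype.ext
      (commutatorElement_eq_one_iff_mul_comm.2 (hcM h u huU).symm)⟩
    have h1 := commutatorElement_eq_one_iff_mul_comm.1 (congrArg Subtype.val h)
    have : U ≤ centralizer ({g} : Set R) := hUgen ▸ sup_le
      (zpowers_le.2 (mem_centralizer_singleton_iff.2 h1.symm))
      fun z hz => mem_centralizer_singleton_iff.2 (mem_center_iff.1 (hZcen hz) g).symm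
    exact mem_centralizer_singleton_iff.1 (this hy)
  have hMi : M.index = p := by
    obtain ⟨b, hb⟩ := hR.exists_card_eq
    obtain ⟨a, -, ha⟩ := (Nat.dvd_prime_pow hp.out).1 (hb ▸ index_dvd_card M)
    have h1 : M.index ≤ p := by
      rw [← hfker, index_ker]
      exact (Nat.card_le_card_of_injective _ Subtype.val_injective).trans hZc.le
    have h0 : a ≠ 0 := fun h => heM (index_eq_one.1 (by rw [ha, h, pow_zero]) ▸ mem_top e)
    rw [ha] at h1 ⊢
    have := (Nat.pow_le_pow_iff_right hp.out.one_lt).1 (h1.trans_eq (pow_one p).symm)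
    rw [show a = 1 by omega, pow_one]
  -- an element of `M` moving `e` outside `Z`
  obtain ⟨x₀, hx₀, hv₀⟩ : ∃ x ∈ M, ⁅x, e⁆ ∉ Z := by
    by_contra h
    push Not at h
    apply hUZ
    set S := (center (R ⧸ Z)).comap (QuotientGroup.mk' Z)
    have hmemS : ∀ y, (∀ g, ⁅y, g⁆ ∈ Z) → y ∈ S := fun y hy => mem_comap.2 (mem_center_iff.2 fun q => by
      induction q using QuotientGroup.induction_on with
      | _ g =>
        refine (commutatorElement_eq_one_iff_mul_comm.1 ?_).symm
        show QuotientGroup.mk' Z ⁅y, g⁆ = 1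
        exact (QuotientGroup.eq_one_iff _).2 (hy g))
    have heS : e ∈ S := hmemS e fun g => by
      obtain ⟨n, m, hm, rfl⟩ := exists_pow_mul hR hMi heM g
      rw [commutatorElement_mul_right_eq_mul_conj, commutatorElement_eq_one_iff_mul_comm.2
        ((Commute.refl e).pow_right n).eq, one_mul]
      exact hZn.conj_mem _ (by rw [← commutatorElement_inv]; exact inv_mem (h m hm)) _
    have hES : E ≤ S := hEgen ▸ sup_le (zpowers_le.2 heS) fun y hy => hmemS y (hUZ' y hy)
    rw [hUdef, commutator_le]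
    intro y hy g _
    rw [← QuotientGroup.eq_one_iff, ← QuotientGroup.mk'_apply, map_commutatorElement,
      commutatorElement_eq_one_iff_mul_comm]
    exact (mem_center_iff.1 (mem_comap.1 (hES hy)) _).symm
  -- commutators of `M` with `e` detect `M` modulo `U C`
  have hkey : ∀ y ∈ M, ⁅y, e⁆ ∈ Z → y ∈ U ⊔ C := by
    intro y hy hyz
    obtain ⟨m, hm⟩ := mem_powers_iff_mem_zpowers.2
      ((hZelem (hUZ' u huU e) hue).ge hyz : ⁅y, e⁆ ∈ zpowers ⁅u, e⁆)
    change ⁅u, e⁆ ^ m = _ at hm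
    have hc' : ⁅(u ^ m)⁻¹ * y, e⁆ = 1 := by
      rw [comm_mul_left (hZcen hyz), ← hm, ← comm_pow_left (hZcen (hUZ' u huU e)),
        ← comm_mul_left (hZcen (hUZ' _ (pow_mem huU m) e)), inv_mul_cancel, commutatorElement_one_left]
    have hmem : (u ^ m)⁻¹ * y ∈ C := hEcomm _ (mul_mem (inv_mem (hUM (pow_mem huU m))) hy)
      (commutatorElement_eq_one_iff_mul_comm.1 hc')
    rw [← mul_inv_cancel_left (u ^ m) y]
    exact mul_mem (mem_sup_left (pow_mem huU m)) (mem_sup_right hmem)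
  have hiter : ∀ y ∈ M, ∀ n : ℕ, ⁅y ^ n, e⁆ = ⁅y, e⁆ ^ n := by
    intro y hy n
    induction n with
    | zero => simp
    | succ n ih =>
      rw [pow_succ, commutatorElement_mul_left_eq_conj_mul, ← hcM (pow_mem hy n) _ (hcU e heE y).2,
        mul_inv_cancel_right, ih, pow_succ']
  have hnotZ : ∀ {y : R}, ⁅y, e⁆ ∉ Z → ∀ {i : ℕ}, ⁅y, e⁆ ^ i ∈ Z → p ∣ i := by
    intro y hy i hi
    by_contra hpi
    have hcop : i.Coprime (orderOf ⁅y, e⁆) := by
      refine Nat.Coprime.coprime_dvd_right (orderOf_dvd_of_pow_eq_one (hEp _ (hUE (hcU e heE y).2))) ?_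
      exact (hp.out.coprime_iff_not_dvd.2 hpi).symm
    obtain ⟨m, hm⟩ := exists_pow_eq_self_of_coprime hcop
    exact hy (hm ▸ pow_mem hi m)
  have hxp : ∀ y ∈ M, y ^ p ∈ C := fun y hy => hEcomm _ (pow_mem hy p)
    (commutatorElement_eq_one_iff_mul_comm.1
      (by rw [hiter y hy, hEp _ (hUE (hcU e heE y).2)]))
  -- a cyclic subgroup
  have hcyc' : IsCyclic ↥(zpowers x₀ ⊔ C) := by
    refine CfsgLib.OddLocal.Ten.isCyclic_of_pRankLE_one (hR.to_subgroup _) (by omega)
      ((pRankLE_subgroup_iff _).2 fun B hB hBe => ?_)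
    rw [pow_one, ← hZc]
    refine card_le_of_le fun b hb => ?_
    obtain ⟨t, ht, c, hc, rfl⟩ := mem_sup_of_normal_right.1 (hB hb)
    obtain ⟨i, rfl⟩ := mem_powers_iff_mem_zpowers.2 ht
    have hbE : x₀ ^ i * c ∈ E := mem_omegaSet.2 (hBe.2 _ hb)
    refine ⟨hbE, ?_⟩
    have hbM : x₀ ^ i * c ∈ M := mul_mem (pow_mem hx₀ i) (hCM hc)
    have hbU : x₀ ^ i * c ∈ U := by
      obtain ⟨t, ht, v, hv, htv⟩ := mem_sup_of_normal_right.1 (hEgen.ge hbE)
      by_cases ht1 : t = 1
      · rw [← htv, ht1, one_mul]; exact hv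
      · have htM : t ∈ M := eq_mul_inv_of_mul_eq htv ▸ mul_mem hbM (inv_mem (hUM hv))
        have hzt : zpowers t = zpowers e := eq_of_le_of_card_ge (zpowers_le.2 ht) (by
          rw [Nat.card_zpowers, Nat.card_zpowers, orderOf_eq_prime (hEp t (zpowers_le.2 heE ht)) ht1,
            orderOf_eq_prime (hEp e heE) fun h => heU (h ▸ one_mem U)])
        exact absurd (zpowers_le.2 htM (hzt.ge (mem_zpowers e))) heM
    have h1 : ⁅x₀, e⁆ ^ i ∈ Z := by
      have := hUZ' _ hbU e
      rwa [commutatorElement_mul_left_eq_conj_mul, commutatorElement_eq_one_iff_mul_comm.2 (hcomE hc e heE).symm,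
        mul_one, mul_inv_cancel, one_mul, hiter x₀ hx₀] at this
    obtain ⟨k, hk⟩ := hnotZ hv₀ h1
    show x₀ ^ i * c ∈ C
    rw [hk, pow_mul]
    exact mul_mem (pow_mem (hxp x₀ hx₀) k) hc
  obtain ⟨g, hg⟩ := hcyc'.exists_generator
  set x : R := (g : R) with hxdef
  have hgen' : ∀ y ∈ zpowers x₀ ⊔ C, y ∈ zpowers x := fun y hy => by
    obtain ⟨i, hi⟩ := mem_zpowers_iff.1 (hg ⟨y, hy⟩)
    exact mem_zpowers_iff.2 ⟨i, by have := congrArg Subtype.val hi; simpa using this⟩
  have hxM : x ∈ M := (sup_le (zpowers_le.2 hx₀) hCM) g.2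
  have hv : ⁅x, e⁆ ∉ Z := fun h => hv₀ (by
    obtain ⟨i, hi⟩ := mem_powers_iff_mem_zpowers.2 (hgen' x₀ (mem_sup_left (mem_zpowers x₀)))
    rw [← hi, hiter x hxM]; exact pow_mem h i)
  have hxC : x ∉ C := fun h => hv (by
    rw [commutatorElement_eq_one_iff_mul_comm.2 (hcomE h e heE).symm]; exact one_mem _)
  have hdecM : ∀ y ∈ M, ∃ n : ℕ, ∃ w ∈ U, y = x ^ n * w := by
    intro y hy
    have hvU : ⁅x, e⁆ ∈ U := (hcU e heE x).2
    have hUv : U = zpowers ⁅x, e⁆ ⊔ Z := by
      refine (eq_of_le_of_card_ge (sup_le (zpowers_le.2 hvU) hZU) ?_).symm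
      by_contra hlt
      have h5 := hpow (lt_of_le_of_ne (sup_le (zpowers_le.2 hvU) hZU) fun h => hlt (by rw [h])) hU2
      rw [← hZc] at h5
      exact hv ((eq_of_le_of_card_ge (le_sup_right : Z ≤ zpowers ⁅x, e⁆ ⊔ Z) h5).symm ▸
        mem_sup_left (mem_zpowers _))
    obtain ⟨t, ht, ζ, hζ, htζ⟩ := mem_sup_of_normal_right.1 (hUv.le (hcU e heE y).2)
    obtain ⟨n, rfl⟩ := mem_powers_iff_mem_zpowers.2 ht
    have hy' : ⁅(x ^ n)⁻¹ * y, e⁆ ∈ Z := by
      have h1 : ⁅y, e⁆ = ⁅(x ^ n)⁻¹ * y, e⁆ * ⁅x, e⁆ ^ n := by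
        conv_lhs => rw [← mul_inv_cancel_left (x ^ n) y]
        rw [commutatorElement_mul_left_eq_conj_mul, ← hcM (pow_mem hxM n) _ (hcU e heE _).2,
          mul_inv_cancel_right, hiter x hxM]
      rw [eq_mul_inv_of_mul_eq h1.symm, ← htζ, mem_center_iff.1 (hZcen hζ), mul_inv_cancel_right]
      exact hζ
    obtain ⟨w, hw, c, hc, hwc⟩ := mem_sup_of_normal_left.1
      (hkey _ (mul_mem (inv_mem (pow_mem hxM n)) hy) hy')
    obtain ⟨m, rfl⟩ := mem_powers_iff_mem_zpowers.2 (hgen' c (mem_sup_right hc))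
    refine ⟨n + m, w, hw, ?_⟩
    rw [pow_add, mul_assoc, ← hcM (pow_mem hxM m) w hw, hwc, mul_inv_cancel_left]
  have hUc : U.Characteristic := by rw [hUdef]; infer_instance
  have hinvU : ∀ a, ∀ w ∈ U, ψ a w ∈ U := fun a w hw =>
    characteristic_iff_map_le.1 hUc (ψ a) (mem_map_of_mem _ hw)
  have hinv : ∀ a, ∀ y ∈ M, ψ a y ∈ M := by
    intro a y hy
    refine mem_centralizer_iff.2 fun w hw => ?_
    obtain ⟨w', hw', rfl⟩ : ∃ w' ∈ U, ψ a w' = w := ⟨ψ a⁻¹ w, hinvU a⁻¹ w hw, by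
      rw [← MulAut.mul_apply, ← map_mul, mul_inv_cancel, map_one, MulAut.one_apply]⟩
    rw [← map_mul, ← map_mul, hcM hy w' hw']
  refine hgen.false_of_fix (K := M) (fun h => heM (h ▸ mem_top e)) (exists_pow_mul hR hMi heM) hinv
    fun a => ?_
  obtain ⟨i, w, hw, ei⟩ := hdecM _ (hinv a x hxM)
  obtain ⟨t, ht, w', hw', htw⟩ := mem_sup_of_normal_right.1
    (hEgen.ge (characteristic_iff_map_le.1 hEc (ψ a) (mem_map_of_mem _ heE)) : ψ a e ∈ zpowers e ⊔ U)
  obtain ⟨j, rfl⟩ := mem_powers_iff_mem_zpowers.2 ht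
  have ej : ψ a e = e ^ j * w' := htw.symm
  set v := ⁅x, e⁆ with hvdef
  have hvU : v ∈ U := (hcU e heE x).2
  set z := ⁅v, e⁆ with hzdef
  have hzZ : z ∈ Z := hUZ' v hvU e
  have hz1 : z ≠ 1 := fun h => hv ⟨hUE hvU, hEcomm v (hUM hvU) (commutatorElement_eq_one_iff_mul_comm.1 h)⟩
  have hzo : orderOf z = p := orderOf_eq_prime (hEp z hzZ.1) hz1
  have haz1 : ψ a z = z ^ i := by
    obtain ⟨m, hm⟩ := mem_powers_iff_mem_zpowers.2 (hgen' z (mem_sup_right hzZ.2))
    change x ^ m = z at hm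
    have hpm : p ∣ m := hnotZ hv (by
      rw [← hiter x hxM, hm, commutatorElement_eq_one_iff_mul_comm.2 (hcomE hzZ.2 e heE).symm]
      exact one_mem _)
    have hwx : Commute (x ^ i) w := (hcM (pow_mem hxM i) w hw).symm
    obtain ⟨r, hr'⟩ := hpm
    rw [← hm, map_pow, ei, hwx.mul_pow, ← pow_mul, ← pow_mul, mul_comm i, hr', pow_mul w,
      hEp w (hUE hw), one_pow, mul_one]
  have hav : ψ a v * (v ^ (i * j))⁻¹ ∈ Z := by
    rw [← QuotientGroup.eq_one_iff, ← QuotientGroup.mk'_apply]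
    set π := QuotientGroup.mk' Z
    have hcen : ∀ y ∈ U, π y ∈ center (R ⧸ Z) := fun y hy => mem_center_iff.2 fun q => by
      induction q using QuotientGroup.induction_on with
      | _ g =>
        refine (commutatorElement_eq_one_iff_mul_comm.1 ?_).symm
        show π ⁅y, g⁆ = 1
        exact (QuotientGroup.eq_one_iff _).2 (hUZ' y hy g)
    rw [map_mul, map_inv, mul_inv_eq_one, hvdef, map_commutatorElement (ψ a), ei, ej,
      map_commutatorElement, map_mul, map_mul, map_pow, map_pow, map_pow, map_commutatorElement]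
    have hz : ∀ y ∈ U, ∀ q : R ⧸ Z, ⁅q, π y⁆ = 1 ∧ ⁅π y, q⁆ = 1 := fun y hy q =>
      ⟨commutatorElement_eq_one_iff_mul_comm.2 (mem_center_iff.1 (hcen y hy) q),
        commutatorElement_eq_one_iff_mul_comm.2 (mem_center_iff.1 (hcen y hy) q).symm⟩
    have hvc : ⁅π x, π e⁆ ∈ center (R ⧸ Z) := by
      rw [← map_commutatorElement]; exact hcen _ hvU
    rw [comm_mul_left (by rw [(hz w hw _).2]; exact one_mem _), (hz w hw _).2, mul_one,
      comm_mul_right (by rw [(hz w' hw' _).1]; exact one_mem _), (hz w' hw' _).1, mul_one,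
      comm_pow_left (by rw [comm_pow_right hvc]; exact pow_mem hvc j), comm_pow_right hvc, ← pow_mul,
      mul_comm j]
  have haz2 : ψ a z = z ^ (i * j * j) := by
    obtain ⟨ζ, hζ, eζ⟩ : ∃ ζ ∈ Z, ψ a v = ζ * v ^ (i * j) := ⟨_, hav, by rw [inv_mul_cancel_right]⟩
    have hζc : ∀ q : R, ⁅ζ, q⁆ = 1 := fun q =>
      commutatorElement_eq_one_iff_mul_comm.2 (mem_center_iff.1 (hZcen hζ) q).symm
    have hvw : ⁅v ^ (i * j), w'⁆ = 1 :=
      commutatorElement_eq_one_iff_mul_comm.2 (hUcomm _ (pow_mem hvU _) w' hw')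
    have hzc : ⁅v, e⁆ ∈ center R := hZcen hzZ
    rw [hzdef, map_commutatorElement, eζ, ej, comm_mul_left (hZcen (hUZ' _ (pow_mem hvU _) _)), hζc,
      one_mul, comm_mul_right (by rw [hvw]; exact one_mem _), hvw, mul_one,
      comm_pow_left (by rw [comm_pow_right hzc]; exact pow_mem hzc j), comm_pow_right hzc, ← pow_mul,
      mul_comm j]
  have hjj : j * j ≡ 1 [MOD p] := modEq_one_of_pow_eq hzo (j := i)
    (fun h => hz1 (by rw [← map_eq_one_iff (ψ a) (ψ a).injective, haz1, h]))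
    (by rw [← haz1, haz2]; ring_nf)
  set π := QuotientGroup.mk' U
  have hpiU : ∀ y ∈ U, π y = 1 := fun y hy => (QuotientGroup.eq_one_iff y).2 hy
  have hk : ∀ k : ℕ, π (ψ (a ^ k) e) = π e ^ j ^ k := by
    intro k
    induction k with
    | zero => simp
    | succ k ih =>
      have h1 : (π e ^ j ^ k)⁻¹ * π (ψ (a ^ k) e) = 1 := by rw [ih, inv_mul_cancel]
      have h2 : (e ^ j ^ k)⁻¹ * ψ (a ^ k) e ∈ U := by
        rw [← QuotientGroup.eq_one_iff, ← QuotientGroup.mk'_apply, map_mul, map_inv, map_pow]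
        exact h1
      have h3 := hpiU _ (hinvU a _ h2)
      rw [map_mul, map_inv, map_pow, map_mul, map_inv, map_pow, ej, map_mul, map_pow, hpiU w' hw',
        mul_one, inv_mul_eq_one, ← pow_mul] at h3
      rw [pow_succ' a, map_mul, MulAut.mul_apply, ← h3, pow_succ']
  have hN := hk (orderOf a)
  rw [pow_orderOf_eq_one, map_one, MulAut.one_apply] at hN
  have hpe : orderOf (π e) = p := orderOf_eq_prime (by rw [← map_pow, hEp e heE, map_one])
    fun h => heU ((QuotientGroup.eq_one_iff e).1 h)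
  have hjN : j ^ orderOf a ≡ 1 [MOD p] := by
    rw [← hpe]
    exact pow_eq_pow_iff_modEq.1 (by rw [pow_one]; exact hN.symm)
  obtain ⟨k, hk'⟩ := hodd.of_dvd_nat (orderOf_dvd_natCard a)
  rw [hk', pow_succ, pow_mul] at hjN
  have hj1 : j ≡ 1 [MOD p] := by
    have h4 : (j ^ 2) ^ k * j ≡ 1 * j [MOD p] := by
      refine Nat.ModEq.mul_right _ ?_
      have := hjj.pow k
      rwa [one_pow, ← pow_two] at this
    rw [one_mul] at h4
    exact h4.symm.trans hjN
  rw [ej, ← mul_assoc]
  exact mul_mem (inv_mul_pow_mem (by rw [hEp e heE]; exact one_mem _) hj1) (hUM hw')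

/-- A `p`-group of rank at most two generated by the displacements of a coprime group of odd order. -/
theorem coprime_structure [Finite A] (hp2 : p ≠ 2) (hR : IsPGroup p R) (hR1 : Nontrivial R)
    (hr : PRankLE p 2 R) (hA : (Nat.card A).Coprime p) (hodd : Odd (Nat.card A))
    {ψ : A →* MulAut R} (hgen : Generates ψ) :
    3 < p ∧ ((∀ a b : R, a * b = b * a) ∨ ∃ R₁ R₂ : Subgroup R, R₁ ⊔ R₂ = ⊤ ∧
      (∀ a ∈ R₁, ∀ b ∈ R₂, a * b = b * a) ∧ ¬ IsMulCommutative R₁ ∧ Nat.card R₁ = p ^ 3 ∧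
      Monoid.exponent R₁ = p ∧ IsCyclic R₂ ∧ closure {x : R | x ∈ R₂ ∧ x ^ p = 1} = ⁅R₁, R₁⁆) := by
  have hp3 : 3 < p := by
    have h3 : 3 ≤ p := by have := hp.out.two_le; omega
    refine lt_of_le_of_ne h3 fun h => ?_
    have hone : ∀ a : A, ψ a = 1 := by
      intro a
      by_contra hne
      have : IsMulCommutative (zpowers (ψ a)) := inferInstance
      have hcard : Nat.card (zpowers (ψ a)) ∣ Nat.card A := by
        rw [Nat.card_zpowers]; exact (orderOf_map_dvd ψ a).trans (orderOf_dvd_natCard a)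
      have hs : Group.IsSolvable (zpowers (ψ a)) := by infer_instance
      obtain ⟨-, h2⟩ := operator_rank_two hR hp2 hr (hodd.of_dvd_nat hcard) (zpowers (ψ a)).subtype
        (fun b _ hb => Subtype.ext hb)
      obtain ⟨q, hq, hqd⟩ := Nat.exists_prime_and_dvd
        (fun e => hne (by rw [← orderOf_eq_one_iff, ← Nat.card_zpowers]; exact e) :
          Nat.card (zpowers (ψ a)) ≠ 1)
      have hqA := hqd.trans hcard
      have hqp : q ≠ p := fun e => hp.out.ne_one (Nat.eq_one_of_dvd_coprimes hA (e ▸ hqA) dvd_rfl)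
      have hlt := (h2 q hq hqp hqd).2
      have := hq.two_le
      exact Nat.not_even_iff_odd.2 hodd (even_iff_two_dvd.2 ((show q = 2 by omega) ▸ hqA))
    have hbot : (⊤ : Subgroup R) = ⊥ := by
      rw [eq_bot_iff, ← hgen, closure_le]
      rintro _ ⟨a, y, rfl⟩
      rw [hone a, MulAut.one_apply, inv_mul_cancel]
      exact one_mem _
    obtain ⟨r, hr'⟩ := exists_ne (1 : R)
    exact hr' (mem_bot.1 (hbot ▸ mem_top r))
  have hp5 : 5 ≤ p := by
    by_contra h
    have : p = 4 := by omega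
    exact absurd (this ▸ hp.out) (by norm_num)
  refine ⟨hp3, ?_⟩
  by_cases hbig : Nat.card {x : R // x ^ p = 1} ≤ p ^ 2
  · exact Or.inl (abelian_of_small hp5 hA _ R rfl hR hbig ψ hgen)
  · exact Or.inr (extraspecial_structure hp5 hR hr hodd hgen hbig)

end CfsgLib.OddLocal.RankTwo
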