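import Cfsg.Agent.Lib.OddLocal.RankTwo.Operator
import Cfsg.Agent.Lib.OddLocal.Ten.Complement
import Cfsg.Agent.Lib.OddLocal.Ten.Quotient
import Cfsg.Agent.Lib.Solvable.Fitting

/-!
The `p`-structure of solvable groups of odd order of `p`-rank at most two.
-/

set_option autoImplicit false

namespace CfsgLib.OddLocal.RankTwo

open Cfsg Subgroup
open scoped commutatorElement

universe u

variable {p : ℕ} [hp : Fact p.Prime]

/-- The conclusions shared by the rank two and the narrow case. -/
def PStructure (p : ℕ) (G : Type u) [Group G] : Prop :=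
  (∀ q : ℕ, q.Prime → q ∣ (pPrimeCore p G).index → q ≤ p) ∧
    ((p = 3 ∨ ∀ q : ℕ, q.Prime → q ∣ Nat.card G → p ≤ q) → HasNormalPComplement p G) ∧
    HasNormalPComplement p ↥(commutator G) ∧
    (∀ L : Subgroup ↥(commutator G), (Nat.card L).Coprime p → L ≤ pPrimeCore p ↥(commutator G)) ∧
    commutator G ≤ pPrimePCore p G ∧ ((pPrimePCore p G).index).Coprime p

variable {G : Type u} [Group G] [Finite G]

/-- From information on `G / O_{p'}(G)` to the structure of `G`. -/
theorem structure_of_quotient (hodd : Odd (Nat.card G))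
    (hder : IsPGroup p (commutator (G ⧸ pPrimeCore p G)))
    (hpr : ∀ q : ℕ, q.Prime → q ≠ p → q ∣ Nat.card (G ⧸ pPrimeCore p G) → q < p) :
    PStructure p G := by
  set N := pPrimeCore p G with hN
  set π := QuotientGroup.mk' N
  have hmapc : (commutator G).map π = commutator (G ⧸ N) := by
    rw [_root_.commutator_def, map_commutator, map_top_of_surjective _ (QuotientGroup.mk'_surjective N),
      ← _root_.commutator_def]
  have hle : commutator (G ⧸ N) ≤ pCore p (G ⧸ N) := CfsgLib.Cores.le_pCore hder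
  have hcomm : commutator G ≤ pPrimePCore p G := map_le_iff_le_comap.1 (hmapc.le.trans hle)
  have hnc : HasNormalPComplement p ↥(commutator G) := by
    obtain ⟨k, hk⟩ := hder.exists_card_eq
    refine CfsgLib.Transfer.hasNormalPComplement_of (N := N.subgroupOf (commutator G)) inferInstance ?_ (k := k) ?_
    · exact Nat.Coprime.coprime_dvd_left
        (card_comap_dvd_of_injective _ _ (commutator G).subtype_injective)
        (CfsgLib.Cores.coprime_card_pPrimeCore p)
    · show N.relIndex (commutator G) = p ^ k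
      rw [CfsgLib.PGroup.relIndex_eq_card_map, hmapc, hk]
  refine ⟨fun q hq hd => ?_, fun h => ?_, hnc, fun L hL => ?_, hcomm, ?_⟩
  · rcases eq_or_ne q p with rfl | hne
    · exact le_rfl
    · exact (hpr q hq hne hd).le
  · refine CfsgLib.Transfer.hasNormalPComplement_of (N := N) inferInstance
      (CfsgLib.Cores.coprime_card_pPrimeCore p) (k := (Nat.card (G ⧸ N)).primeFactorsList.length) ?_
    refine Nat.eq_prime_pow_of_unique_prime_dvd Nat.card_pos.ne' fun {q} hq hd => ?_
    by_contra hne
    have hlt := hpr q hq hne hd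
    have hqG : q ∣ Nat.card G := hd.trans (card_quotient_dvd_card N)
    rcases h with rfl | h
    · have h2 := hq.two_le
      have : q = 2 := by omega
      exact Nat.not_even_iff_odd.2 hodd (even_iff_two_dvd.2 (this ▸ hqG))
    · exact hlt.not_ge (h q hq hqG)
  · intro x hx
    exact (CfsgLib.OddLocal.Ten.mem_pPrimeCore_iff hnc).2 (Nat.Coprime.coprime_dvd_left
      (Subgroup.orderOf_dvd_natCard L hx) hL)
  · unfold pPrimePCore
    rw [index_comap_of_surjective _ (QuotientGroup.mk'_surjective _)]
    refine ((hp.out.coprime_iff_not_dvd).2 fun hd => ?_).symm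
    have hpn : (pCore p (G ⧸ N)).Normal := Subgroup.sSup_normal _ fun _ h => h.1
    have S := (default : Sylow p (G ⧸ N))
    have hRS : pCore p (G ⧸ N) ≤ (S : Subgroup (G ⧸ N)) := CfsgLib.Cores.pCore_le_sylow S
    have hSn : (S : Subgroup (G ⧸ N)).Normal := Subgroup.Normal.of_commutator_le _ (hle.trans hRS)
    exact S.not_dvd_index (hd.trans (index_dvd_of_le (CfsgLib.Cores.le_pCore (hN := S.isPGroup'))))

/-- The action of `G / O_{p'}(G)` on `O_p` is faithful on elements of order prime to `p`. -/
theorem faithful_conj_pCore [Group.IsSolvable G] (hO : pPrimeCore p G = ⊥)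
    [hn : (pCore p G).Normal] (a : G) (ha : (orderOf a).Coprime p)
    (h : MulAut.conjNormal (H := pCore p G) a = 1) : a = 1 := by
  have hmem : a ∈ centralizer (pCore p G : Set G) := mem_centralizer_iff.2 fun r hr => by
    have h2 := congrArg Subtype.val (DFunLike.congr_fun h (⟨r, hr⟩ : pCore p G))
    rw [MulAut.conjNormal_apply, MulAut.one_apply] at h2
    exact (mul_inv_eq_iff_eq_mul.1 h2).symm
  obtain ⟨k, hk⟩ := (CfsgLib.Cores.isPGroup_pCore (G := G) p).exists_card_eq
  exact orderOf_eq_one_iff.1 (Nat.eq_one_of_dvd_coprimes (ha.pow_right k) dvd_rfl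
    (hk ▸ Subgroup.orderOf_dvd_natCard _ (CfsgLib.Solvable.centralizer_pCore_le p hO hmem)))

/-- Rank two. -/
theorem structure_rank_two [Group.IsSolvable G] (hodd : Odd (Nat.card G)) (hpG : p ∣ Nat.card G)
    (hr : PRankLE p 2 G) : PStructure p G := by
  have hp2 : p ≠ 2 := fun h => Nat.not_even_iff_odd.2 hodd (even_iff_two_dvd.2 (h ▸ hpG))
  set N := pPrimeCore p G with hN
  have hoddQ : Odd (Nat.card (G ⧸ N)) := hodd.of_dvd_nat (card_quotient_dvd_card N)
  have hn : (pCore p (G ⧸ N)).Normal := Subgroup.sSup_normal _ fun _ h => h.1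
  have hrQ : PRankLE p 2 (G ⧸ N) :=
    CfsgLib.OddLocal.Ten.pRankLE_quotient N (CfsgLib.Cores.not_dvd_card_pPrimeCore p) hr
  obtain ⟨h1, h2⟩ := operator_rank_two (CfsgLib.Cores.isPGroup_pCore (G := G ⧸ N) p) hp2
    (CfsgLib.PGroup.pRankLE_subgroup hrQ _) hoddQ (MulAut.conjNormal (H := pCore p (G ⧸ N)))
    (fun a ha h => faithful_conj_pCore (CfsgLib.Cores.pPrimeCore_quotient_self p) a ha h)
  exact structure_of_quotient hodd h1 fun q hq hne hd => (h2 q hq hne hd).2

end CfsgLib.OddLocal.RankTwo
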