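import Cfsg.Agent.Lib.PGroup.ElemAbelian
import Cfsg.Agent.Lib.Local.AB
import Cfsg.Agent.S3771

/-!
The `p`-th power map in `p`-groups of rank at most two, `p ≥ 5`: equal `p`-th powers differ by an
element of order dividing `p`.
-/

set_option autoImplicit false

namespace CfsgLib.OddLocal.RankTwo

open Cfsg Subgroup CfsgLib.PGroup
open scoped commutatorElement

universe u

variable {G : Type u} [Group G]

/-- Collecting `(x w) ^ n` in class three. -/
theorem mul_pow_classThree {x w u c₁ c₂ : G} (h1 : c₁ ∈ center G) (h2 : c₂ ∈ center G)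
    (hw : w * x = x * w * u) (hu : u * x = x * u * c₁) (huw : u * w = w * u * c₂) (n : ℕ) :
    (x * w) ^ n = x ^ n * w ^ n * u ^ n.choose 2 * c₁ ^ n.choose 3 *
      c₂ ^ (2 * n.choose 3 + n.choose 2) := by
  have z1 : ∀ m : ℕ, ∀ g : G, c₁ ^ m * g = g * c₁ ^ m := fun m g => (mem_center_iff.1 (pow_mem h1 m) g).symm
  have z2 : ∀ m : ℕ, ∀ g : G, c₂ ^ m * g = g * c₂ ^ m := fun m g => (mem_center_iff.1 (pow_mem h2 m) g).symm
  have z2' : ∀ g : G, c₂ * g = g * c₂ := fun g => (mem_center_iff.1 h2 g).symm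
  have z1' : ∀ g : G, c₁ * g = g * c₁ := fun g => (mem_center_iff.1 h1 g).symm
  have ux : ∀ m : ℕ, u ^ m * x = x * u ^ m * c₁ ^ m := by
    intro m
    induction m with
    | zero => simp
    | succ m ih =>
      calc u ^ (m + 1) * x = u ^ m * (u * x) := by rw [pow_succ, mul_assoc]
        _ = (u ^ m * x) * u * c₁ := by rw [hu]; simp only [mul_assoc]
        _ = x * u ^ m * (c₁ ^ m * u) * c₁ := by rw [ih]; simp only [mul_assoc]
        _ = x * u ^ (m + 1) * c₁ ^ (m + 1) := by rw [z1, pow_succ u, pow_succ c₁]; simp only [mul_assoc]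
  have uw : ∀ m : ℕ, u ^ m * w = w * u ^ m * c₂ ^ m := by
    intro m
    induction m with
    | zero => simp
    | succ m ih =>
      calc u ^ (m + 1) * w = u ^ m * (u * w) := by rw [pow_succ, mul_assoc]
        _ = (u ^ m * w) * u * c₂ := by rw [huw]; simp only [mul_assoc]
        _ = w * u ^ m * (c₂ ^ m * u) * c₂ := by rw [ih]; simp only [mul_assoc]
        _ = w * u ^ (m + 1) * c₂ ^ (m + 1) := by rw [z2, pow_succ u, pow_succ c₂]; simp only [mul_assoc]
  have wx : ∀ m : ℕ, w ^ m * x = x * w ^ m * u ^ m * c₂ ^ m.choose 2 := by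
    intro m
    induction m with
    | zero => simp
    | succ m ih =>
      calc w ^ (m + 1) * x = w ^ m * (w * x) := by rw [pow_succ, mul_assoc]
        _ = (w ^ m * x) * w * u := by rw [hw]; simp only [mul_assoc]
        _ = x * w ^ m * u ^ m * (c₂ ^ m.choose 2 * w) * u := by rw [ih]; simp only [mul_assoc]
        _ = x * w ^ m * (u ^ m * w) * (c₂ ^ m.choose 2 * u) := by rw [z2]; simp only [mul_assoc]
        _ = x * w ^ m * w * u ^ m * (c₂ ^ m * u) * c₂ ^ m.choose 2 := by
          rw [uw, z2]; simp only [mul_assoc]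
        _ = x * w ^ (m + 1) * u ^ (m + 1) * c₂ ^ (m + 1).choose 2 := by
          rw [z2, Nat.choose_succ_succ' m 1, Nat.choose_one_right, pow_succ w m, pow_succ u m,
            pow_add c₂ m]
          simp only [mul_assoc]
  induction n with
  | zero => simp
  | succ n ih =>
    set a := n.choose 2
    set b := n.choose 3
    set d := 2 * b + a
    calc (x * w) ^ (n + 1) = x ^ n * w ^ n * u ^ a * c₁ ^ b * (c₂ ^ d * (x * w)) := by
          rw [pow_succ, ih]; simp only [mul_assoc]
      _ = x ^ n * w ^ n * u ^ a * (c₁ ^ b * (x * w)) * c₂ ^ d := by rw [z2]; simp only [mul_assoc]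
      _ = x ^ n * w ^ n * (u ^ a * x) * w * c₁ ^ b * c₂ ^ d := by rw [z1]; simp only [mul_assoc]
      _ = x ^ n * (w ^ n * x) * u ^ a * (c₁ ^ a * w) * c₁ ^ b * c₂ ^ d := by
          rw [ux]; simp only [mul_assoc]
      _ = x ^ n * x * w ^ n * u ^ n * (c₂ ^ a * (u ^ a * w)) * c₁ ^ a * c₁ ^ b * c₂ ^ d := by
          rw [wx, z1]; simp only [a, mul_assoc]
      _ = x ^ (n + 1) * w ^ n * (u ^ (n + a) * w) * c₂ ^ a * (c₁ ^ (a + b) * c₂ ^ d) := by
          rw [z2, pow_add u, pow_add c₁, pow_succ x]; simp only [mul_assoc]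
      _ = x ^ (n + 1) * w ^ (n + 1) * u ^ (n + a) * (c₂ ^ (n + a + a) * c₁ ^ (a + b)) * c₂ ^ d := by
          rw [uw, pow_succ w, pow_add c₂ (n + a)]; simp only [mul_assoc]
      _ = x ^ (n + 1) * w ^ (n + 1) * u ^ (n + a) * c₁ ^ (a + b) * c₂ ^ (n + a + a + d) := by
          rw [z2, pow_add c₂ (n + a + a)]; simp only [mul_assoc]
      _ = _ := by
          rw [Nat.choose_succ_succ' n 1, Nat.choose_succ_succ' n 2, Nat.choose_one_right]
          show _ = x ^ (n + 1) * w ^ (n + 1) * u ^ (n + a) * c₁ ^ (a + b) * c₂ ^ (2 * (a + b) + (n + a))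
          rw [show n + a + a + d = 2 * (a + b) + (n + a) by omega]

variable [Finite G] {p : ℕ} [hp : Fact p.Prime]

omit [Finite G] in
/-- The `p`-th power map is a homomorphism when the commutators lie in a normal subgroup of
exponent `p` with central commutators. -/
theorem mul_pow_prime (hp5 : 5 ≤ p) {U : Subgroup G} (hUp : ∀ u ∈ U, u ^ p = 1)
    (hc : ∀ a b : G, ⁅a, b⁆ ∈ U) (hUc : ∀ u ∈ U, ∀ g : G, ⁅u, g⁆ ∈ center G) (x w : G) :
    (x * w) ^ p = x ^ p * w ^ p := by
  set u := ⁅w⁻¹, x⁻¹⁆ with hu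
  have hu' : u ∈ U := hc _ _
  have h1 : ⁅u⁻¹, x⁻¹⁆ ∈ center G := hUc _ (inv_mem hu') _
  have h2 : ⁅u⁻¹, w⁻¹⁆ ∈ center G := hUc _ (inv_mem hu') _
  rw [mul_pow_classThree h1 h2 (u := u) (by rw [hu, commutatorElement_def]; group)
    (by rw [commutatorElement_def]; group) (by rw [commutatorElement_def]; group) p]
  obtain ⟨i, hi⟩ := hp.out.dvd_choose_self (k := 2) (by norm_num) (by omega)
  obtain ⟨j, hj⟩ := hp.out.dvd_choose_self (k := 3) (by norm_num) (by omega)
  have hk : 2 * p.choose 3 + p.choose 2 = p * (2 * j + i) := by rw [hi, hj]; ring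
  rw [hk, hi, hj, pow_mul, pow_mul, pow_mul, hUp u hu', hUp _ (hc _ _), hUp _ (hc _ _)]
  simp

omit [Finite G] hp in
/-- A normal subgroup containing the commutator of two generators contains the derived group. -/
theorem commutator_le_of_generators {S : Subgroup G} [S.Normal] {x y : G}
    (hxy : closure {x, y} = ⊤) (h : ⁅x, y⁆ ∈ S) : commutator G ≤ S := by
  rw [_root_.commutator_def, commutator_le]
  intro a _ b _
  rw [← QuotientGroup.eq_one_iff, ← QuotientGroup.mk'_apply, map_commutatorElement,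
    commutatorElement_eq_one_iff_mul_comm]
  set π := QuotientGroup.mk' S
  have hc : π x * π y = π y * π x := by
    rw [← commutatorElement_eq_one_iff_mul_comm, ← map_commutatorElement]
    exact (QuotientGroup.eq_one_iff _).2 h
  have hgen : (⊤ : Subgroup G) ≤ (closure {π x, π y}).comap π := hxy.ge.trans ((closure_le _).2 (by
    rintro _ (rfl | rfl)
    · exact subset_closure (Or.inl rfl)
    · exact subset_closure (Or.inr rfl)))
  have : IsMulCommutative (closure {π x, π y}) := by
    refine isMulCommutative_closure fun a ha b hb => ?_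
    rcases ha with rfl | rfl <;> rcases hb with rfl | rfl <;> first | rfl | exact hc | exact hc.symm
  exact congrArg Subtype.val (this.is_comm.comm (⟨π a, hgen (mem_top a)⟩ : closure {π x, π y})
    ⟨π b, hgen (mem_top b)⟩)

theorem commutator_top_lt (hG : IsPGroup p G) (N : Subgroup G) [hn : N.Normal] (hN : N ≠ ⊥) :
    ⁅N, (⊤ : Subgroup G)⁆ < N :=
  CfsgLib.Local.commutator_lt_of_isPGroup (hG.to_subgroup N) (hG.to_subgroup ⊤)
    (by rw [normalizer_eq_top_iff.2 hn]) hN

/-- A small normal subgroup has central commutators and is centralised by the derived group. -/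
theorem small_normal (hG : IsPGroup p G) (N : Subgroup G) [N.Normal] (hN : Nat.card N ≤ p ^ 2) :
    ⁅N, (⊤ : Subgroup G)⁆ ≤ center G ∧ commutator G ≤ centralizer (N : Set G) := by
  set U := ⁅N, (⊤ : Subgroup G)⁆ with hU
  have hUc : U ≤ center G := by
    by_cases hU1 : U = ⊥
    · rw [hU1]; exact bot_le
    have hN1 : N ≠ ⊥ := fun e => hU1 (by rw [hU, e, commutator_bot_left])
    obtain ⟨a, ha⟩ := (hG.to_subgroup N).exists_card_eq
    obtain ⟨b, hb⟩ := (hG.to_subgroup U).exists_card_eq
    have hlt : Nat.card U < Nat.card N := by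
      refine lt_of_le_of_ne (card_le_of_le (commutator_top_lt hG N hN1).le) fun e => ?_
      exact (commutator_top_lt hG N hN1).ne (eq_of_le_of_card_ge (commutator_top_lt hG N hN1).le e.ge)
    have hb1 : b = 1 := by
      have h0 : b ≠ 0 := fun e => hU1 (card_eq_one.1 (by rw [hb, e, pow_zero]))
      rw [ha, hb] at hlt
      rw [ha] at hN
      have := (Nat.pow_lt_pow_iff_right hp.out.one_lt).1 hlt
      have := (Nat.pow_le_pow_iff_right hp.out.one_lt).1 hN
      omega
    exact le_center_of_card_eq hG U (by rw [hb, hb1, pow_one])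
  refine ⟨hUc, ?_⟩
  have h0 : ⁅⁅N, (⊤ : Subgroup G)⁆, (⊤ : Subgroup G)⁆ = ⊥ := by
    rw [eq_bot_iff, commutator_le]
    intro a ha b _
    rw [mem_bot, commutatorElement_eq_one_iff_mul_comm]
    exact (mem_center_iff.1 (hUc ha) b).symm
  have h := commutator_commutator_eq_bot_of_rotate (H₁ := (⊤ : Subgroup G)) (H₂ := ⊤) (H₃ := N)
    (by rw [commutator_comm ⊤ N, h0]) h0
  rw [← commutator_eq_bot_iff_le_centralizer, _root_.commutator_def]
  exact h

/-- In a `p`-group of rank at most two, `p ≥ 5`, elements with equal `p`-th powers differ by an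
element of order dividing `p`. -/
theorem eq_pow_imp (hp5 : 5 ≤ p) : ∀ (n : ℕ) (G : Type u) [Group G] [Finite G],
    Nat.card G = n → IsPGroup p G → PRankLE p 2 G →
    ∀ x y : G, x ^ p = y ^ p → (x⁻¹ * y) ^ p = 1 := by
  intro n
  induction n using Nat.strong_induction_on with
  | _ n ih =>
    intro G _ _ hn hG hr x y hxy
    have sub : ∀ H : Subgroup G, H ≠ ⊤ → ∀ a ∈ H, ∀ b ∈ H, a ^ p = b ^ p → (a⁻¹ * b) ^ p = 1 := by
      intro H hH a ha b hb hab
      have hlt : Nat.card H < n := hn ▸ lt_of_le_of_ne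
        (Nat.le_of_dvd Nat.card_pos (card_subgroup_dvd_card H)) fun e => hH (eq_top_of_card_eq H e)
      have := ih _ hlt H rfl (hG.to_subgroup H) (pRankLE_subgroup hr H) ⟨a, ha⟩ ⟨b, hb⟩
        (Subtype.ext (by simpa using hab))
      simpa using congrArg Subtype.val this
    by_cases hcl : closure {x, y} = ⊤
    swap
    · exact sub _ hcl x (subset_closure (Or.inl rfl)) y (subset_closure (Or.inr rfl)) hxy
    rcases eq_top_or_exists_le_coatom (zpowers x) with htop | ⟨M, hM, hxM⟩
    · obtain ⟨i, rfl⟩ := mem_zpowers_iff.1 (htop ▸ mem_top y : y ∈ zpowers x)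
      rw [(Commute.inv_left (Commute.self_zpow x i)).mul_pow, inv_pow, hxy, inv_mul_cancel]
    have hMn := normal_of_isCoatom hG hM
    have hxM' : x ∈ M := hxM (mem_zpowers x)
    have hc : (x⁻¹ * (y * x * y⁻¹)) ^ p = 1 := by
      refine sub M hM.1 x hxM' _ (hMn.conj_mem x hxM' y) ?_
      rw [conj_pow, hxy, ← pow_succ', pow_succ, mul_inv_cancel_right]
    set c := x⁻¹ * (y * x * y⁻¹) with hcdef
    have hcc : c = ⁅x⁻¹, y⁆ := by rw [hcdef, commutatorElement_def]; group
    set D := commutator G with hD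
    have hcD : c ∈ D := by
      rw [hcc, hD, _root_.commutator_def]; exact commutator_mem_commutator (mem_top _) (mem_top _)
    have hDne : D ≠ ⊤ := by
      intro e
      have := hG.isNilpotent
      have : Nontrivial G := by
        by_contra h
        rw [not_nontrivial_iff_subsingleton] at h
        exact hM.1 (Subsingleton.elim _ _)
      exact (Group.IsSolvable.commutator_lt_top_of_nontrivial (G := G)).ne e
    have hxy' : closure {x⁻¹, y} = ⊤ := by
      rw [eq_top_iff, ← hcl, closure_le]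
      rintro _ (rfl | rfl)
      · exact inv_mem_iff.1 (subset_closure (Or.inl rfl))
      · exact subset_closure (Or.inr rfl)
    -- the derived group has exponent `p`
    let S : Subgroup G :=
      { carrier := {d | d ∈ D ∧ d ^ p = 1}
        one_mem' := ⟨one_mem D, one_pow p⟩
        inv_mem' := fun {a} ha => ⟨inv_mem ha.1, by rw [inv_pow, ha.2, inv_one]⟩
        mul_mem' := fun {a b} ha hb => ⟨mul_mem ha.1 hb.1, by
          have := sub D hDne a⁻¹ (inv_mem ha.1) b hb.1 (by rw [inv_pow, ha.2, inv_one, hb.2])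
          rwa [inv_inv] at this⟩ }
    have hSn : S.Normal := ⟨fun d hd g => ⟨Subgroup.Normal.conj_mem inferInstance d hd.1 g, by
      rw [conj_pow, hd.2, mul_one, mul_inv_cancel]⟩⟩
    have hDS : D ≤ S := commutator_le_of_generators hxy' (hcc ▸ ⟨hcD, hc⟩)
    have hexp : ∀ d ∈ D, d ^ p = 1 := fun d hd => (hDS hd).2
    have hD3 : Nat.card D ≤ p ^ 3 := Cfsg.Agent.S3771.result (hG.to_subgroup D)
      (pRankLE_subgroup hr D) fun d => Subtype.ext (by simpa using hexp d d.2)
    set U := ⁅D, (⊤ : Subgroup G)⁆ with hU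
    have hUD : U ≤ D := commutator_le_left _ _
    have hU2 : Nat.card U ≤ p ^ 2 := by
      by_cases hD1 : D = ⊥
      · have := card_le_of_le hUD
        rw [hD1, card_bot] at this
        exact this.trans (Nat.one_le_pow _ _ hp.out.pos)
      obtain ⟨a, ha⟩ := (hG.to_subgroup D).exists_card_eq
      obtain ⟨b, hb⟩ := (hG.to_subgroup U).exists_card_eq
      have hlt : Nat.card U < Nat.card D := by
        refine lt_of_le_of_ne (card_le_of_le hUD) fun e => ?_
        exact (commutator_top_lt hG D hD1).ne (eq_of_le_of_card_ge hUD e.ge)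
      rw [ha, hb] at hlt
      rw [ha] at hD3
      rw [hb]
      have := (Nat.pow_lt_pow_iff_right hp.out.one_lt).1 hlt
      have := (Nat.pow_le_pow_iff_right hp.out.one_lt).1 hD3
      exact Nat.pow_le_pow_right hp.out.pos (by omega)
    obtain ⟨-, hDU⟩ := small_normal hG U hU2
    have hDgen : D ≤ zpowers c ⊔ U := by
      have : (zpowers c ⊔ U).Normal := by
        constructor
        intro t ht g
        have hle : zpowers c ⊔ U ≤ D := sup_le (zpowers_le.2 hcD) hUD
        have h1 : ⁅t, g⁆ ∈ U := commutator_mem_commutator (hle ht) (mem_top g)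
        have h2 : g * t * g⁻¹ = ⁅t, g⁆⁻¹ * t := by rw [commutatorElement_def]; group
        rw [h2]
        exact mul_mem (mem_sup_right (inv_mem h1)) ht
      exact commutator_le_of_generators hxy' (mem_sup_left (hcc ▸ mem_zpowers c))
    have hUe : IsElementaryAbelian p U := isElementaryAbelian_mk
      (fun a ha b hb => (mem_centralizer_iff.1 (hDU (hUD ha)) b hb).symm) fun a ha => hexp a (hUD ha)
    have hDe : IsElementaryAbelian p D := elemAb_mono (elemAb_sup (elemAb_zpowers hc) hUe
      fun a ha b hb => (mem_centralizer_iff.1 (hDU (zpowers_le.2 hcD ha)) b hb).symm) hDgen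
    obtain ⟨hDc, -⟩ := small_normal hG D (pRankLE_iff.1 hr D hDe)
    have hpow := mul_pow_prime hp5 hexp
      (fun a b => by rw [hD, _root_.commutator_def]; exact commutator_mem_commutator (mem_top a) (mem_top b))
      (fun u hu g => hDc (commutator_mem_commutator hu (mem_top g))) x (x⁻¹ * y)
    rw [mul_inv_cancel_left, ← hxy, left_eq_mul] at hpow
    exact hpow

/-- The elements of order dividing `p`. -/
def omegaSet (p : ℕ) [Fact p.Prime] (hp5 : 5 ≤ p) (hG : IsPGroup p G) (hr : PRankLE p 2 G) :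
    Subgroup G where
  carrier := {x | x ^ p = 1}
  one_mem' := one_pow p
  inv_mem' := fun {a} ha => show a⁻¹ ^ p = 1 by rw [inv_pow, ha, inv_one]
  mul_mem' := fun {a b} ha hb => show (a * b) ^ p = 1 by
    have := eq_pow_imp hp5 _ G rfl hG hr a⁻¹ b (by rw [inv_pow, show a ^ p = 1 from ha, inv_one]; exact hb.symm)
    rwa [inv_inv] at this

theorem mem_omegaSet {hp5 : 5 ≤ p} {hG : IsPGroup p G} {hr : PRankLE p 2 G} {x : G} :
    x ∈ omegaSet p hp5 hG hr ↔ x ^ p = 1 := Iff.rfl

theorem omegaSet_characteristic (hp5 : 5 ≤ p) (hG : IsPGroup p G) (hr : PRankLE p 2 G) :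
    (omegaSet p hp5 hG hr).Characteristic := by
  rw [characteristic_iff_map_le]
  rintro φ _ ⟨x, hx, rfl⟩
  show φ x ^ p = 1
  rw [← map_pow, show x ^ p = 1 from hx, map_one]

theorem card_omegaSet (hp5 : 5 ≤ p) (hG : IsPGroup p G) (hr : PRankLE p 2 G) :
    Nat.card (omegaSet p hp5 hG hr) ≤ p ^ 3 :=
  Cfsg.Agent.S3771.result (hG.to_subgroup _) (pRankLE_subgroup hr _) fun d =>
    Subtype.ext (by rw [Subgroup.coe_pow, Subgroup.coe_one]; exact d.2)

end CfsgLib.OddLocal.RankTwo
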