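import Cfsg.Agent.Lib.OddLocal.RankTwo.Operator
import Cfsg.Agent.Lib.OddLocal.RankTwo.PowerMap

/-!
Automorphisms of narrow `p`-groups: solvable operator groups of odd order have a derived `p`-group.
-/

set_option autoImplicit false

namespace CfsgLib.OddLocal.RankTwo

open Cfsg Subgroup CfsgLib.PGroup
open scoped commutatorElement Pointwise

universe u v

variable {R : Type u} [Group R] [Finite R] {p : ℕ} [hp : Fact p.Prime]

omit hp in
/-- Counting with commutators. -/
theorem card_le_card_mul_centralizer {N H : Subgroup R} (x : R) (h : ∀ n ∈ N, ⁅n, x⁆ ∈ H) :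
    Nat.card N ≤ Nat.card H * Nat.card ↥(N ⊓ centralizer ({x} : Set R)) := by
  set f : N → H := fun n => ⟨⁅(n : R), x⁆, h n n.2⟩
  let sec : H → N := Function.invFun f
  have hsec : ∀ n : N, f (sec (f n)) = f n := fun n => Function.invFun_eq ⟨n, rfl⟩
  have hmem : ∀ n : N, ((sec (f n) : N) : R)⁻¹ * (n : R) ∈ N ⊓ centralizer ({x} : Set R) := by
    intro n
    refine Subgroup.mem_inf.2 ⟨N.mul_mem (N.inv_mem (sec (f n)).2) n.2, mem_centralizer_singleton_iff.2 ?_⟩
    have h1 : ⁅((sec (f n) : N) : R), x⁆ = ⁅(n : R), x⁆ := congrArg Subtype.val (hsec n)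
    rw [commutatorElement_def, commutatorElement_def] at h1
    have h2 := mul_right_cancel h1
    have h3 := congrArg (fun t => ((sec (f n) : N) : R)⁻¹ * t * (n : R)) h2
    simpa [mul_assoc] using h3.symm
  rw [← Nat.card_prod]
  refine Nat.card_le_card_of_injective
    (fun n : N => (f n, (⟨_, hmem n⟩ : ↥(N ⊓ centralizer ({x} : Set R))))) fun a b hab => ?_
  obtain ⟨h1, h2⟩ := Prod.ext_iff.1 hab
  have h3 := congrArg Subtype.val h2
  change ((sec (f a) : N) : R)⁻¹ * (a : R) = ((sec (f b) : N) : R)⁻¹ * (b : R) at h3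
  rw [show f a = f b from h1] at h3
  exact Subtype.ext (mul_left_cancel h3)

/-- What narrowness gives in rank at least three. -/
theorem narrow_data (hR : IsPGroup p R) (hn : IsNarrow p R) (hrk : ¬ PRankLE p 2 R) :
    ∃ (E : Subgroup R) (x z : R), Nat.card E ≤ p ^ 2 ∧ x ∈ E ∧ z ∈ E ∧ x ^ p = 1 ∧ orderOf z = p ∧
      z ∈ center R ∧ x ∉ center R ∧ (∀ y, y ^ p = 1 → y * x = x * y → y ∈ E) ∧
      (∀ y ∈ center R, y ^ p = 1 → y ∈ zpowers z) := by
  obtain ⟨R₀, R₁, h0, h1, -, hcomm, hsup⟩ := hn.resolve_left hrk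
  set H := R₀ ⊔ R₁ with hH
  have hcyc : IsCyclic R₀ := isCyclic_of_prime_card h0
  have hHc : ∀ a ∈ H, ∀ b ∈ H, a * b = b * a := by
    have : H ≤ centralizer (H : Set R) := by
      rw [hH]
      refine sup_le (fun a ha => mem_centralizer_iff.2 ?_) fun b hb => mem_centralizer_iff.2 ?_
      · have : (R₀ ⊔ R₁ : Subgroup R) ≤ centralizer ({a} : Set R) := sup_le
          (fun c hc => mem_centralizer_singleton_iff.2
            (congrArg Subtype.val (hcyc.isMulCommutative.is_comm.comm (⟨c, hc⟩ : R₀) ⟨a, ha⟩)))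
          (fun c hc => mem_centralizer_singleton_iff.2 (hcomm a ha c hc).symm)
        exact fun y hy => mem_centralizer_singleton_iff.1 (this hy)
      · have : (R₀ ⊔ R₁ : Subgroup R) ≤ centralizer ({b} : Set R) := sup_le
          (fun c hc => mem_centralizer_singleton_iff.2 (hcomm c hc b hb))
          (fun c hc => mem_centralizer_singleton_iff.2
            (congrArg Subtype.val (h1.isMulCommutative.is_comm.comm (⟨c, hc⟩ : R₁) ⟨b, hb⟩)))
        exact fun y hy => mem_centralizer_singleton_iff.1 (this hy)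
    exact fun a ha b hb => (mem_centralizer_iff.1 (this ha) b hb).symm
  obtain ⟨⟨x, hxR⟩, hx⟩ := hcyc.exists_generator
  have hxH : x ∈ H := mem_sup_left hxR
  have hxp : x ^ p = 1 := by
    have := pow_card_eq_one' (x := (⟨x, hxR⟩ : R₀))
    rw [h0] at this
    exact congrArg Subtype.val this
  have hCx : centralizer ({x} : Set R) ≤ H := by
    refine fun y hy => hsup.ge (mem_centralizer_iff.2 fun r hr => ?_)
    obtain ⟨i, hi⟩ := mem_zpowers_iff.1 (hx ⟨r, hr⟩)
    rw [show r = x ^ i from (congrArg Subtype.val hi).symm]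
    exact ((Commute.zpow_left (mem_centralizer_singleton_iff.1 hy).symm i)).eq
  let E : Subgroup R :=
    { carrier := {y | y ∈ H ∧ y ^ p = 1}
      one_mem' := ⟨one_mem H, one_pow p⟩
      inv_mem' := fun {a} ha => ⟨inv_mem ha.1, by rw [inv_pow, ha.2, inv_one]⟩
      mul_mem' := fun {a b} ha hb => ⟨mul_mem ha.1 hb.1, by
        rw [(show Commute a b from hHc a ha.1 b hb.1).mul_pow, ha.2, hb.2, one_mul]⟩ }
  have hEmem : ∀ y, y ∈ E ↔ y ∈ H ∧ y ^ p = 1 := fun y => Iff.rfl
  have hEe : IsElementaryAbelian p E :=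
    isElementaryAbelian_mk (fun a ha b hb => hHc a ha.1 b hb.1) fun a ha => ha.2
  have hR0p : ∀ a ∈ R₀, a ^ p = 1 := fun a ha => by
    have := pow_card_eq_one' (x := (⟨a, ha⟩ : R₀))
    rw [h0] at this
    exact congrArg Subtype.val this
  have hE1 : Nat.card ↥(E ⊓ R₁) ≤ p := by
    have : IsCyclic ↥(E ⊓ R₁) :=
      isCyclic_of_injective (Subgroup.inclusion (inf_le_right : E ⊓ R₁ ≤ R₁)) (inclusion_injective _)
    rw [← IsCyclic.exponent_eq_card]
    exact Nat.le_of_dvd hp.out.pos (Monoid.exponent_dvd_of_forall_pow_eq_one fun y => Subtype.ext (by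
      rw [Subgroup.coe_pow, Subgroup.coe_one]; exact y.2.1.2))
  have hE2 : Nat.card E ≤ p ^ 2 := by
    let g : R₀ × ↥(E ⊓ R₁) → E := fun q => ⟨(q.1 : R) * (q.2 : R),
      mul_mem ⟨mem_sup_left q.1.2, hR0p _ q.1.2⟩ q.2.2.1⟩
    have hg : Function.Surjective g := by
      rintro ⟨y, hy, hyp⟩
      have hn : R₁ ≤ normalizer (R₀ : Set R) := fun b hb => centralizer_le_normalizer _
        (mem_centralizer_iff.2 fun a ha => hcomm a ha b hb)
      have hyS : y ∈ ((R₀ : Set R) * (R₁ : Set R)) := by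
        rw [← coe_mul_of_right_le_normalizer_left R₀ R₁ hn]; exact hy
      obtain ⟨a, ha, b, hb, hab⟩ := Set.mem_mul.1 hyS
      have hbp : b ^ p = 1 := by
        rw [← hab, (show Commute a b from hcomm a ha b hb).mul_pow, hR0p a ha, one_mul] at hyp
        exact hyp
      exact ⟨(⟨a, ha⟩, ⟨b, ⟨⟨mem_sup_right hb, hbp⟩, hb⟩⟩), Subtype.ext hab⟩
    refine (Nat.card_le_card_of_surjective g hg).trans ?_
    rw [Nat.card_prod, h0, pow_two]
    exact Nat.mul_le_mul_left _ hE1
  have hself : ∀ y, y ^ p = 1 → y * x = x * y → y ∈ E := fun y hy hc =>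
    ⟨hCx (mem_centralizer_singleton_iff.2 hc), hy⟩
  have hxc : x ∉ center R := fun hc => hrk (pRankLE_iff.2 fun B hB => (card_le_of_le fun b hb =>
    hself b (hB.2 b hb) (mem_center_iff.1 hc b)).trans hE2)
  have hne : (⊤ : Subgroup R) ≠ ⊥ := fun e => hxc (by
    rw [show x = 1 from mem_bot.1 (e ▸ mem_top x)]; exact one_mem _)
  obtain ⟨z, hz, hzo⟩ := exists_orderOf_eq hR (inf_center_ne_bot hR ⊤ hne)
  have hzp : z ^ p = 1 := hzo ▸ pow_orderOf_eq_one z
  refine ⟨E, x, z, hE2, ⟨hxH, hxp⟩, hself z hzp (mem_center_iff.1 hz.2 x).symm, hxp, hzo, hz.2, hxc, hself,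
    fun y hy hyp => ?_⟩
  by_contra hyz
  have hsup' : zpowers z ⊔ zpowers y ≤ center R := sup_le (zpowers_le.2 hz.2) (zpowers_le.2 hy)
  have hle : zpowers z ⊔ zpowers y ≤ E := sup_le
    (zpowers_le.2 (hself z hzp (mem_center_iff.1 hz.2 x).symm))
    (zpowers_le.2 (hself y hyp (mem_center_iff.1 hy x).symm))
  have hlt : zpowers z < zpowers z ⊔ zpowers y :=
    lt_of_le_of_ne le_sup_left fun e => hyz (e ▸ mem_sup_right (mem_zpowers y))
  obtain ⟨a, ha⟩ := (hR.to_subgroup (zpowers z ⊔ zpowers y)).exists_card_eq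
  have h2 : p < p ^ a := ha ▸ hzo ▸ Nat.card_zpowers z ▸ lt_of_le_of_ne (card_le_of_le hlt.le)
    fun e => hlt.ne (eq_of_le_of_card_ge hlt.le e.ge)
  have h3 := (Nat.pow_lt_pow_iff_right hp.out.one_lt).1 ((pow_one p).trans_lt h2)
  have heq : zpowers z ⊔ zpowers y = E := eq_of_le_of_card_ge hle
    (hE2.trans (ha ▸ Nat.pow_le_pow_right hp.out.pos h3))
  exact hxc (hsup' (heq ▸ ⟨hxH, hxp⟩))

/-- A descending series of characteristic subgroups. -/
def commSeries (D : Subgroup R) : ℕ → Subgroup R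
  | 0 => D
  | n + 1 => ⁅commSeries D n, (⊤ : Subgroup R)⁆

omit [Finite R] in
theorem commSeries_char {D : Subgroup R} [hD : D.Characteristic] : ∀ n, (commSeries D n).Characteristic
  | 0 => hD
  | n + 1 => by
    have := commSeries_char (D := D) n
    rw [commSeries]; infer_instance

/-- Automorphisms of a narrow `p`-group of rank at least three. -/
theorem narrow_aut (hR : IsPGroup p R) (hp2 : p ≠ 2) (hn : IsNarrow p R) (hrk : ¬ PRankLE p 2 R) :
    ∃ K : Subgroup (MulAut R), commutator (MulAut R) ≤ K ∧ (∀ a, a ^ (p - 1) ∈ K) ∧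
      ∀ a ∈ K, (orderOf a).Coprime p → a = 1 := by
  obtain ⟨E, x, z, hE2, hxE, hzE, hxp, hzo, hzc, hxc, hself, hcz⟩ := narrow_data hR hn hrk
  obtain ⟨D, hDc, hexp, hcl, hdet⟩ := CfsgLib.Techniques.SmallCritical.exists_detecting hR
  have hexp' : ∀ d ∈ D, d ^ p = 1 := fun d hd => by
    have := hexp d hd
    rwa [CfsgLib.Techniques.SmallCritical.smallExp, if_neg hp2] at this
  set S := commSeries D
  have hS0 : S 0 = D := rfl
  have hSs : ∀ n, S (n + 1) = ⁅S n, (⊤ : Subgroup R)⁆ := fun n => rfl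
  have hSc : ∀ n, (S n).Characteristic := fun n => commSeries_char n
  have hSn : ∀ n, (S n).Normal := fun n => by have := hSc n; infer_instance
  have hSle : ∀ n, S (n + 1) ≤ S n := fun n => by
    have := hSn n
    rw [hSs]; exact commutator_le_left _ _
  have hSD : ∀ n, S n ≤ D := fun n => by
    induction n with
    | zero => exact le_rfl
    | succ n ih => exact (hSle n).trans ih
  have hzmem : ∀ N : Subgroup R, N.Normal → N ≠ ⊥ → z ∈ N := fun N hN hN1 => by
    obtain ⟨w, hw, hwo⟩ := exists_orderOf_eq hR (inf_center_ne_bot hR N hN1)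
    have hmem := hcz w hw.2 (hwo ▸ pow_orderOf_eq_one w)
    have : zpowers w = zpowers z := eq_of_le_of_card_ge (zpowers_le.2 hmem) (by
      rw [Nat.card_zpowers, Nat.card_zpowers, hwo, hzo])
    exact zpowers_le.2 hw.1 (this.ge (mem_zpowers z))
  have hp12 : p < p ^ 2 := lt_self_pow₀ hp.out.one_lt (by norm_num)
  -- the commutators of `x` are not all in `⟨z⟩`
  have hxz : ¬ ∀ g : R, ⁅g, x⁆ ∈ zpowers z := by
    intro hall
    refine hrk (pRankLE_iff.2 fun B hB => ?_)
    have h1 := card_le_card_mul_centralizer (N := B) x (fun n _ => hall n)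
    rw [Nat.card_zpowers, hzo] at h1
    have h2 : B ⊓ centralizer ({x} : Set R) ≤ E := fun b hb =>
      hself b (hB.2 b hb.1) (mem_centralizer_singleton_iff.1 hb.2)
    by_cases hBx : B ≤ centralizer ({x} : Set R)
    · exact (card_le_of_le ((le_inf le_rfl hBx).trans h2)).trans hE2
    · have hxB : x ∉ B := fun h => hBx fun b hb =>
        mem_centralizer_singleton_iff.2 (elemAb_comm hB hb h)
      have hlt : B ⊓ centralizer ({x} : Set R) < E := lt_of_le_of_ne h2 fun e => hxB (e ▸ hxE).1
      have hlt' : Nat.card ↥(B ⊓ centralizer ({x} : Set R)) < Nat.card E :=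
        lt_of_le_of_ne (card_le_of_le h2) fun e => hlt.ne (eq_of_le_of_card_ge h2 e.ge)
      obtain ⟨a, ha⟩ := (hR.to_subgroup (B ⊓ centralizer ({x} : Set R))).exists_card_eq
      rw [ha] at hlt' h1
      have := (Nat.pow_lt_pow_iff_right hp.out.one_lt).1 (hlt'.trans_le hE2)
      refine h1.trans ?_
      rw [pow_two]
      exact Nat.mul_le_mul_left _ ((Nat.pow_le_pow_right hp.out.pos (by omega : a ≤ 1)).trans_eq (pow_one p))
  have hD1big : x ∈ D → p ^ 2 ≤ Nat.card (S 1) := by
    intro hxD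
    have hx1 : ∀ g : R, ⁅g, x⁆ ∈ S 1 := fun g => by
      rw [hSs 0, hS0, commutator_comm]; exact commutator_mem_commutator (mem_top g) hxD
    have hne : S 1 ≠ ⊥ := fun e => hxz fun g => by
      have := hx1 g; rw [e, mem_bot] at this; rw [this]; exact one_mem _
    have hzS : zpowers z ≤ S 1 := zpowers_le.2 (hzmem _ (hSn 1) hne)
    have hlt : zpowers z < S 1 := lt_of_le_of_ne hzS fun e => hxz fun g => e ▸ hx1 g
    obtain ⟨a, ha⟩ := (hR.to_subgroup (S 1)).exists_card_eq
    have h1 : Nat.card (zpowers z) < Nat.card (S 1) :=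
      lt_of_le_of_ne (card_le_of_le hzS) fun e => hlt.ne (eq_of_le_of_card_ge hzS e.ge)
    rw [Nat.card_zpowers, hzo, ha] at h1
    rw [ha]
    exact Nat.pow_le_pow_right hp.out.pos ((Nat.pow_lt_pow_iff_right hp.out.one_lt).1 ((pow_one p).trans_lt h1))
  have hDx : x ∈ D → ¬ D ≤ centralizer ({x} : Set R) := by
    intro hxD hle
    have hD2 : Nat.card D ≤ p ^ 2 := (card_le_of_le fun d hd =>
      hself d (hexp' d hd) (mem_centralizer_singleton_iff.1 (hle hd))).trans hE2
    have hne : D ≠ ⊥ := fun e => hxc (by rw [e, mem_bot] at hxD; rw [hxD]; exact one_mem _)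
    have hlt : S 1 < D := by rw [hSs 0, hS0]; exact commutator_top_lt hR D hne
    have h1 := lt_of_le_of_ne (card_le_of_le hlt.le) fun e => hlt.ne (eq_of_le_of_card_ge hlt.le e.ge)
    exact absurd ((hD1big hxD).trans_lt (h1.trans_le hD2)) (lt_irrefl _)
  -- every factor has order at most `p`
  have hstep : ∀ n, Nat.card (S n) ≤ p * Nat.card (S (n + 1)) := by
    intro n
    have hcomm : ∀ m ∈ S n, ⁅m, x⁆ ∈ S (n + 1) := fun m hm => commutator_mem_commutator hm (mem_top x)
    have hle : S n ⊓ centralizer ({x} : Set R) ≤ E := fun y hy =>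
      hself y (hexp' y (hSD n hy.1)) (mem_centralizer_singleton_iff.1 hy.2)
    by_cases hxS : x ∈ S n
    · have hxD := hSD n hxS
      cases n with
      | zero =>
        have hcomm' : ∀ d ∈ D, ⁅d, x⁆ ∈ zpowers z := by
          intro d hd
          have hd1 : ⁅d, x⁆ ∈ S 1 := commutator_mem_commutator hd (mem_top x)
          have hdc : ⁅d, x⁆ ∈ centralizer (D : Set R) := hcl hd1
          have hdE : ⁅d, x⁆ ∈ E := hself _ (hexp' _ (hSD 1 hd1)) (mem_centralizer_iff.1 hdc x hxD).symm
          by_contra hdz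
          -- otherwise `E = ⟨z, [d, x]⟩` centralises `D`
          have hEgen : zpowers z ⊔ zpowers ⁅d, x⁆ = E := by
            refine eq_of_le_of_card_ge (sup_le (zpowers_le.2 hzE) (zpowers_le.2 hdE)) (hE2.trans ?_)
            obtain ⟨a, ha⟩ := (hR.to_subgroup (zpowers z ⊔ zpowers ⁅d, x⁆)).exists_card_eq
            have hlt : zpowers z < zpowers z ⊔ zpowers ⁅d, x⁆ :=
              lt_of_le_of_ne le_sup_left fun e => hdz (e ▸ mem_sup_right (mem_zpowers _))
            have h1 := lt_of_le_of_ne (card_le_of_le hlt.le) fun e => hlt.ne (eq_of_le_of_card_ge hlt.le e.ge)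
            rw [Nat.card_zpowers, hzo, ha] at h1
            rw [ha]
            exact Nat.pow_le_pow_right hp.out.pos
              ((Nat.pow_lt_pow_iff_right hp.out.one_lt).1 ((pow_one p).trans_lt h1))
          have hEC : E ≤ centralizer (D : Set R) := hEgen ▸ sup_le
            (zpowers_le.2 (mem_centralizer_iff.2 fun y _ => mem_center_iff.1 hzc y))
            (zpowers_le.2 hdc)
          exact hDx hxD fun y hy => mem_centralizer_singleton_iff.2 (mem_centralizer_iff.1 (hEC hxE) y hy)
        have h1 := card_le_card_mul_centralizer (N := S 0) x hcomm'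
        rw [Nat.card_zpowers, hzo] at h1
        exact h1.trans (Nat.mul_le_mul_left p ((card_le_of_le hle).trans (hE2.trans (hD1big hxD))))
      | succ m =>
        exfalso
        have h1 : S (m + 1) ≤ centralizer (D : Set R) :=
          (show S (m + 1) ≤ ⁅D, (⊤ : Subgroup R)⁆ from commutator_mono (hSD m) le_rfl).trans hcl
        exact hDx hxD fun y hy => mem_centralizer_singleton_iff.2 (mem_centralizer_iff.1 (h1 hxS) y hy)
    · refine (card_le_card_mul_centralizer x hcomm).trans ?_
      rw [mul_comm]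
      refine Nat.mul_le_mul_right _ ?_
      have hlt : Nat.card ↥(S n ⊓ centralizer ({x} : Set R)) < Nat.card E :=
        lt_of_le_of_ne (card_le_of_le hle) fun e => hxS ((eq_of_le_of_card_ge hle e.ge).ge hxE).1
      obtain ⟨a, ha⟩ := (hR.to_subgroup (S n ⊓ centralizer ({x} : Set R))).exists_card_eq
      rw [ha] at hlt ⊢
      have := (Nat.pow_lt_pow_iff_right hp.out.one_lt).1 (hlt.trans_le hE2)
      exact (Nat.pow_le_pow_right hp.out.pos (by omega : a ≤ 1)).trans_eq (pow_one p)
  -- the series reaches `⊥`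
  obtain ⟨N, hN⟩ : ∃ n, S n = ⊥ := by
    by_contra hall
    push Not at hall
    have : ∀ n, Nat.card (S n) + n ≤ Nat.card (S 0) := by
      intro n
      induction n with
      | zero => simp
      | succ n ih =>
        have := hSn n
        have hlt : S (n + 1) < S n := by rw [hSs]; exact commutator_top_lt hR _ (hall n)
        have := lt_of_le_of_ne (card_le_of_le hlt.le) fun e => hlt.ne (eq_of_le_of_card_ge hlt.le e.ge)
        omega
    have h1 := this (Nat.card (S 0) + 1)
    omega
  -- the actions on the factors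
  let Ni : ∀ n, Subgroup (S n) := fun n => (S (n + 1)).subgroupOf (S n)
  have hQn : ∀ n, (Ni n).Normal := fun n => by
    have := hSn (n + 1)
    exact Subgroup.normal_subgroupOf
  have hmapN : ∀ n (a : MulAut R), (Ni n).map (@MulAut.characteristic R _ (S n) (hSc n) a).toMonoidHom = Ni n := by
    intro n a
    refine le_antisymm ?_ ?_
    · rintro _ ⟨⟨y, hy⟩, hyN, rfl⟩
      exact characteristic_iff_map_le.1 (hSc (n + 1)) a (mem_map_of_mem _ hyN)
    · rintro ⟨y, hy⟩ hyN
      refine ⟨⟨a⁻¹ y, characteristic_iff_map_le.1 (hSc n) a⁻¹ (mem_map_of_mem _ hy)⟩,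
        characteristic_iff_map_le.1 (hSc (n + 1)) a⁻¹ (mem_map_of_mem _ hyN), Subtype.ext ?_⟩
      show a (a⁻¹ y) = y
      rw [← MulAut.mul_apply, mul_inv_cancel, MulAut.one_apply]
  let φ : ∀ n, MulAut R →* MulAut (S n ⧸ Ni n) := fun n =>
    { toFun := fun a => QuotientGroup.congr (Ni n) (Ni n) (@MulAut.characteristic R _ (S n) (hSc n) a) (hmapN n a)
      map_one' := by
        refine MulEquiv.ext fun q => ?_
        induction q using QuotientGroup.induction_on with
        | _ q => rfl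
      map_mul' := fun a b => by
        refine MulEquiv.ext fun q => ?_
        induction q using QuotientGroup.induction_on with
        | _ q => rfl }
  have hφ : ∀ n, (∀ α β : MulAut (S n ⧸ Ni n), α * β = β * α) ∧
      ∀ α : MulAut (S n ⧸ Ni n), α ^ (p - 1) = 1 := by
    intro n
    have hidx : (Ni n).index ≤ p := by
      have h1 : Nat.card (S (n + 1)) * (Ni n).index = Nat.card (S n) := by
        rw [← Nat.card_congr (subgroupOfEquivOfLe (hSle n)).toEquiv]
        exact card_mul_index _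
      have h2 := hstep n
      rw [← h1, mul_comm] at h2
      exact Nat.le_of_mul_le_mul_right h2 Nat.card_pos
    rw [index_eq_card] at hidx
    obtain ⟨a, ha⟩ := ((hR.to_subgroup (S n)).to_quotient (Ni n)).exists_card_eq
    have ha1 : a ≤ 1 := (Nat.pow_le_pow_iff_right hp.out.one_lt).1 ((ha ▸ hidx).trans_eq (pow_one p).symm)
    rcases Nat.le_one_iff_eq_zero_or_eq_one.1 ha1 with rfl | rfl
    · have : Subsingleton (S n ⧸ Ni n) := (Nat.card_eq_one_iff_unique.1 (by rw [ha, pow_zero])).1
      have hsub : ∀ α β : MulAut (S n ⧸ Ni n), α = β := fun α β => MulEquiv.ext fun q => Subsingleton.elim _ _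
      exact ⟨fun α β => hsub _ _, fun α => hsub _ _⟩
    · rw [pow_one] at ha
      have hc : IsCyclic (S n ⧸ Ni n) := isCyclic_of_prime_card ha
      let e := IsCyclic.mulAutMulEquiv (S n ⧸ Ni n)
      refine ⟨fun α β => e.injective (by rw [map_mul, map_mul, mul_comm]), fun α => e.injective ?_⟩
      rw [map_pow, map_one]
      have key : ∀ m : ℕ, m = p → ∀ u : (ZMod m)ˣ, u ^ (p - 1) = 1 := by
        rintro _ rfl u; exact ZMod.units_pow_card_sub_one_eq_one _ u
      exact key _ ha _
  refine ⟨⨅ n, (φ n).ker, le_iInf fun n => ?_, fun a => mem_iInf.2 fun n => by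
    rw [MonoidHom.mem_ker, map_pow, (hφ n).2], fun a ha hcop => hdet a hcop ?_⟩
  · rw [_root_.commutator_def, commutator_le]
    intro a _ b _
    rw [MonoidHom.mem_ker, map_commutatorElement, commutatorElement_eq_one_iff_mul_comm, (hφ n).1]
  -- trivial on every factor and coprime
  suffices key : ∀ j i, i + j = N → ∀ y ∈ S i, a y = y from fun d hd => key N 0 (zero_add N) d (hS0.symm ▸ hd)
  intro j
  induction j with
  | zero =>
    intro i hi y hy
    rw [show i = N by omega, hN, mem_bot] at hy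
    rw [hy, map_one]
  | succ j ih =>
    intro i hi y hy
    set w := y⁻¹ * a y with hw
    have hwS : w ∈ S (i + 1) := by
      have h1 := DFunLike.congr_fun (MonoidHom.mem_ker.1 (mem_iInf.1 ha i)) ((⟨y, hy⟩ : S i) : S i ⧸ Ni i)
      have h2 := QuotientGroup.eq.1 h1.symm
      exact h2
    have hfix := ih (i + 1) (by omega) w hwS
    have hay : a y = y * w := by rw [hw, mul_inv_cancel_left]
    have hn' : ∀ m : ℕ, (a ^ m) y = y * w ^ m := by
      intro m
      induction m with
      | zero => simp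
      | succ m ihm =>
        rw [pow_succ' a, MulAut.mul_apply, ihm, map_mul, map_pow, hfix, hay, mul_assoc, ← pow_succ']
    have h1 := hn' (orderOf a)
    rw [pow_orderOf_eq_one, MulAut.one_apply, left_eq_mul] at h1
    have h2 : orderOf w = 1 := Nat.eq_one_of_dvd_coprimes hcop (orderOf_dvd_of_pow_eq_one h1)
      (orderOf_dvd_of_pow_eq_one (hexp' w (hSD _ hwS)))
    rw [hay, orderOf_eq_one_iff.1 h2, mul_one]

/-- Solvable operator groups of odd order on narrow groups. -/
theorem operator_narrow (hR : IsPGroup p R) (hp2 : p ≠ 2) (hn : IsNarrow p R) {A : Type v} [Group A]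
    [Finite A] [Group.IsSolvable A] (hodd : Odd (Nat.card A)) (ψ : A →* MulAut R)
    (hfaith : ∀ a : A, (orderOf a).Coprime p → ψ a = 1 → a = 1) :
    IsPGroup p (commutator A) ∧
      (∀ q : ℕ, q.Prime → q ≠ p → q ∣ Nat.card A → q ∣ (p - 1) * (p + 1) ∧ q < p) ∧
      (¬ PRankLE p 2 R → ∀ a : A, (orderOf a).Coprime p → orderOf a ∣ p - 1) := by
  by_cases hr : PRankLE p 2 R
  · exact ⟨(operator_rank_two hR hp2 hr hodd ψ hfaith).1, (operator_rank_two hR hp2 hr hodd ψ hfaith).2,
      fun h => absurd hr h⟩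
  obtain ⟨K, hKc, hKp, hK⟩ := narrow_aut hR hp2 hn hr
  have hKA : ∀ a : A, ψ a ∈ K → (orderOf a).Coprime p → a = 1 := fun a h hc =>
    hfaith a hc (hK _ h (Nat.Coprime.coprime_dvd_left (orderOf_map_dvd ψ a) hc))
  have hord : ∀ a : A, (orderOf a).Coprime p → orderOf a ∣ p - 1 := fun a hc =>
    orderOf_dvd_of_pow_eq_one (hKA _ (by rw [map_pow]; exact hKp _)
      (Nat.Coprime.coprime_dvd_left (orderOf_pow_dvd _) hc))
  refine ⟨fun y => ?_, fun q hq hne hd => ?_, fun _ => hord⟩
  · obtain ⟨a, b, hab, ha, hb, ⟨k, hk⟩, hbc⟩ := CfsgLib.Cores.exists_pow_mul_pow p (y : A)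
    have hbA : b ∈ commutator A := (zpowers_le.2 y.2) hb
    have hb1 : b = 1 := by
      refine hKA b (hKc ?_) hbc
      have h1 := mem_map_of_mem ψ hbA
      rw [_root_.commutator_def, map_commutator] at h1
      rw [_root_.commutator_def]
      exact commutator_mono le_top le_top h1
    refine ⟨k, Subtype.ext ?_⟩
    rw [Subgroup.coe_pow, hab, hb1, mul_one, ← hk, pow_orderOf_eq_one]
    rfl
  · have : Fact q.Prime := ⟨hq⟩
    obtain ⟨a, ha⟩ := exists_prime_orderOf_dvd_card' q hd
    have hd' : q ∣ p - 1 := ha ▸ hord a (ha ▸ (Nat.coprime_primes hq hp.out).2 hne)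
    have := Nat.le_of_dvd (by have := hp.out.two_le; omega) hd'
    exact ⟨hd'.mul_right _, by have := hp.out.two_le; omega⟩

end CfsgLib.OddLocal.RankTwo
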