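import Cfsg.Agent.Lib.OddLocal.RankTwo.Structure
import Cfsg.Agent.Lib.OddLocal.RankTwo.Narrow
import Cfsg.Agent.Lib.OddLocal.Basic

/-!
Odd solvable groups whose Fitting subgroup has rank at most two: the derived group is nilpotent,
and there is a Sylow tower.
-/

set_option autoImplicit false

namespace CfsgLib.OddLocal.RankTwo

open Cfsg Subgroup
open scoped commutatorElement

universe u

variable {G : Type u} [Group G] [Finite G]

theorem pCore_le_piCore {π : Set ℕ} {r : ℕ} [Fact r.Prime] (hr : r ∈ π) :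
    pCore r G ≤ piCore π G := by
  have : (pCore r G).Normal := Subgroup.sSup_normal _ fun _ h => h.1
  refine CfsgLib.OddLocal.Ten.le_piCore fun q hq hd => ?_
  obtain ⟨n, hn⟩ := (CfsgLib.Cores.isPGroup_pCore (G := G) r).exists_card_eq
  exact (Nat.prime_dvd_prime_iff_eq hq Fact.out).1 (hq.dvd_of_dvd_pow (hn ▸ hd)) ▸ hr

theorem pCore_quotient_piCore_eq_bot {π : Set ℕ} {r : ℕ} [Fact r.Prime] (hr : r ∈ π) :
    pCore r (G ⧸ piCore π G) = ⊥ := by
  set N := piCore π G
  set X := pCore r (G ⧸ N)
  set f := QuotientGroup.mk' N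
  have hXn : X.Normal := Subgroup.sSup_normal _ fun _ h => h.1
  have : (X.comap f).Normal := hXn.comap f
  have hle : X.comap f ≤ N := by
    refine CfsgLib.OddLocal.Ten.le_piCore fun q hq hd => ?_
    have hN : N ≤ X.comap f := fun x hx => by
      have h1 : f x = 1 := (QuotientGroup.eq_one_iff x).2 hx
      exact (show f x ∈ X from h1 ▸ one_mem _)
    have hc : Nat.card N * N.relIndex (X.comap f) = Nat.card (X.comap f) := by
      rw [← relIndex_bot_left, ← relIndex_bot_left, relIndex_mul_relIndex ⊥ _ _ bot_le hN]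
    rw [← hc] at hd
    rcases hq.dvd_mul.1 hd with h | h
    · exact CfsgLib.OddLocal.Ten.prime_mem_piCore hq h
    · rw [CfsgLib.PGroup.relIndex_eq_card_map,
        map_comap_eq_self_of_surjective (QuotientGroup.mk'_surjective _)] at h
      obtain ⟨n, hn⟩ := (CfsgLib.Cores.isPGroup_pCore (G := G ⧸ N) r).exists_card_eq
      exact (Nat.prime_dvd_prime_iff_eq hq Fact.out).1 (hq.dvd_of_dvd_pow (hn ▸ h)) ▸ hr
  rw [eq_bot_iff]
  intro x hx
  obtain ⟨y, rfl⟩ := QuotientGroup.mk'_surjective _ x
  exact mem_bot.2 ((QuotientGroup.eq_one_iff y).2 (hle hx))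

/-- Modulo `O_π(G)`, a subgroup centralising the `O_r(G)`, `r ∉ π`, centralises `F(G)`. -/
theorem map_fitting_le_centralizer (π : Set ℕ) {K : Subgroup G}
    (hK : ∀ r : ℕ, r.Prime → r ∉ π → K ≤ centralizer (pCore r G : Set G)) :
    (fittingSubgroup G).map (QuotientGroup.mk' (piCore π G)) ≤
      centralizer ((K.map (QuotientGroup.mk' (piCore π G)) : Subgroup (G ⧸ piCore π G)) : Set (G ⧸ piCore π G)) := by
  rw [map_le_iff_le_comap, CfsgLib.Cores.fittingSubgroup_eq_iSup_pCore, iSup_le_iff]
  rintro ⟨r, hr⟩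
  have hrp := Nat.prime_of_mem_primeFactors hr
  have : Fact r.Prime := ⟨hrp⟩
  intro z hz
  by_cases hπ : r ∈ π
  · rw [Subgroup.mem_comap, show QuotientGroup.mk' (piCore π G) z = 1 from
      (QuotientGroup.eq_one_iff z).2 (pCore_le_piCore hπ hz)]
    exact one_mem _
  · refine mem_centralizer_iff.2 ?_
    rintro _ ⟨k, hk, rfl⟩
    rw [← map_mul, ← map_mul, mem_centralizer_iff.1 (hK r hrp hπ hk) z hz]

/-- A `π`-element of a normal subgroup whose image modulo `O_π(G)` is nilpotent lies in `O_π(G)`. -/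
theorem mem_piCore_of_nilpotent_map {π : Set ℕ} {K : Subgroup G} [hKn : K.Normal]
    (hnil : Group.IsNilpotent (K.map (QuotientGroup.mk' (piCore π G)))) {q : ℕ} [Fact q.Prime]
    (hq : q ∈ π) {x : G} (hx : x ∈ K) (hxq : ∃ k, orderOf x = q ^ k) : x ∈ piCore π G := by
  obtain ⟨k, hk⟩ := hxq
  have : (K.map (QuotientGroup.mk' (piCore π G))).Normal :=
    hKn.map _ (QuotientGroup.mk'_surjective _)
  have h1 := CfsgLib.OddLocal.Ten.le_pCore_of_le_nilpotent (q := q) hnil
    ((IsPGroup.of_card (n := k) (by rw [Nat.card_zpowers, hk]) : IsPGroup q (zpowers x)).map _)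
    (map_mono (zpowers_le.2 hx))
  rw [pCore_quotient_piCore_eq_bot hq, le_bot_iff, Subgroup.map_eq_bot_iff, QuotientGroup.ker_mk'] at h1
  exact h1 (mem_zpowers x)

section Narrow

variable [Group.IsSolvable G] (hodd : Odd (Nat.card G)) (hnar : ∀ (r : ℕ) [Fact r.Prime], IsNarrow r ↥(pCore r G))
include hodd hnar

/-- What the action on `O_r(G)` gives. -/
theorem action_pCore_of_narrow {r : ℕ} [hrp : Fact r.Prime] :
    (∀ x ∈ commutator G, ∃ n : ℕ, x ^ r ^ n ∈ centralizer (pCore r G : Set G)) ∧
      ∀ x : G, (∀ q : ℕ, q.Prime → q ∣ orderOf x → r < q) → x ∈ centralizer (pCore r G : Set G) := by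
  have hn : (pCore r G).Normal := Subgroup.sSup_normal _ fun _ h => h.1
  have hker : ∀ x : G, MulAut.conjNormal (H := pCore r G) x = 1 → x ∈ centralizer (pCore r G : Set G) :=
    fun x h => mem_centralizer_iff.2 fun z hz => by
      have h2 := congrArg Subtype.val (DFunLike.congr_fun h (⟨z, hz⟩ : pCore r G))
      rw [MulAut.conjNormal_apply, MulAut.one_apply] at h2
      exact (mul_inv_eq_iff_eq_mul.1 h2).symm
  by_cases hbot : pCore r G = ⊥
  · have hall : ∀ x : G, x ∈ centralizer (pCore r G : Set G) := fun x => mem_centralizer_iff.2 fun z hz => by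
      rw [hbot] at hz
      rw [mem_bot.1 hz, one_mul, mul_one]
    exact ⟨fun x _ => ⟨0, hall _⟩, fun x _ => hall x⟩
  have hr2 : r ≠ 2 := by
    rintro rfl
    obtain ⟨n, hn⟩ := (CfsgLib.Cores.isPGroup_pCore (G := G) 2).exists_card_eq
    rcases n with _ | n
    · exact hbot (Subgroup.card_eq_one.1 (by simpa using hn))
    · exact Nat.not_even_iff_odd.2 hodd (even_iff_two_dvd.2
        ((dvd_pow_self 2 n.succ_ne_zero).trans (hn ▸ card_subgroup_dvd_card _)))
  set ψ := MulAut.conjNormal (H := pCore r G)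
  have : Group.IsSolvable ψ.range := Group.isSolvable_of_surjective ψ.rangeRestrict_surjective
  obtain ⟨h1, h2, -⟩ := operator_narrow (CfsgLib.Cores.isPGroup_pCore (G := G) r) hr2 (hnar r)
    (hodd.of_dvd_nat (card_range_dvd ψ)) ψ.range.subtype (fun a _ h => Subtype.ext h)
  refine ⟨fun x hx => ?_, fun x hx => hker x ?_⟩
  · have hmem : ψ.rangeRestrict x ∈ commutator ψ.range := by
      have h3 := mem_map_of_mem ψ.rangeRestrict hx
      rw [_root_.commutator_def, map_commutator,
        map_top_of_surjective _ ψ.rangeRestrict_surjective, ← _root_.commutator_def] at h3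
      exact h3
    obtain ⟨n, hn⟩ := h1 ⟨_, hmem⟩
    refine ⟨n, hker _ ?_⟩
    have h4 := congrArg Subtype.val (congrArg Subtype.val hn)
    simp only [Subgroup.coe_pow, Subgroup.coe_one, MonoidHom.coe_rangeRestrict] at h4
    rwa [map_pow]
  · by_contra hne
    obtain ⟨q, hq, hqd⟩ := Nat.exists_prime_and_dvd
      (fun e => hne (orderOf_eq_one_iff.1 e) : orderOf (ψ x) ≠ 1)
    have hlt := hx q hq (hqd.trans (orderOf_map_dvd ψ x))
    have hdr : q ∣ Nat.card ψ.range :=
      hqd.trans (Subgroup.orderOf_dvd_natCard _ (MonoidHom.mem_range.2 ⟨x, rfl⟩))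
    exact absurd (h2 q hq hlt.ne' hdr).2 hlt.not_gt

set_option maxHeartbeats 1000000 in
/-- `G' ≤ F(G)` when every `O_r(G)` is narrow. -/
theorem commutator_le_fitting_of_narrow : commutator G ≤ fittingSubgroup G := by
  have key : ∀ x ∈ commutator G, ∀ q : ℕ, q.Prime → (∃ k, orderOf x = q ^ k) →
      x ∈ piCore {q} G := by
    intro x hx q hq hxq
    have : Fact q.Prime := ⟨hq⟩
    set rs := {r : ℕ | r.Prime ∧ r ≠ q}
    set K := commutator G ⊓ ⨅ r : rs, centralizer (pCore (r : ℕ) G : Set G) with hK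
    have hcn : ∀ r : ℕ, (centralizer (pCore r G : Set G)).Normal := fun r => by
      have : (pCore r G).Normal := Subgroup.sSup_normal _ fun _ h => h.1
      exact Subgroup.normal_centralizer
    have : (⨅ r : rs, centralizer (pCore (r : ℕ) G : Set G)).Normal := normal_iInf_normal fun r => hcn r
    have hKn : K.Normal := Subgroup.normal_inf_normal _ _
    have hKc : ∀ r : ℕ, r.Prime → r ∉ ({q} : Set ℕ) → K ≤ centralizer (pCore r G : Set G) := fun r hr hne =>
      inf_le_right.trans (iInf_le (fun r : rs => centralizer (pCore (r : ℕ) G : Set G)) ⟨r, hr, hne⟩)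
    refine mem_piCore_of_nilpotent_map (K := K) ?_ (Set.mem_singleton q)
      (Subgroup.mem_inf.2 ⟨hx, mem_iInf.2 fun r => ?_⟩) hxq
    · set f := QuotientGroup.mk' (piCore {q} G)
      apply Group.of_quotient_center_nilpotent
      refine IsPGroup.isNilpotent (p := q) fun y => ?_
      induction y using QuotientGroup.induction_on with
      | _ y =>
        obtain ⟨-, k, hk, rfl⟩ := y
        obtain ⟨n, hn⟩ := (action_pCore_of_narrow hodd hnar (r := q)).1 k hk.1
        refine ⟨n, ?_⟩
        rw [← QuotientGroup.mk_pow, QuotientGroup.eq_one_iff, mem_center_iff]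
        intro z
        refine Subtype.ext ?_
        have hF : k ^ q ^ n ∈ fittingSubgroup G := by
          refine CfsgLib.Solvable.centralizer_fittingSubgroup_le ?_
          have hle : fittingSubgroup G ≤ centralizer ({k ^ q ^ n} : Set G) := by
            rw [CfsgLib.Cores.fittingSubgroup_eq_iSup_pCore, iSup_le_iff]
            rintro ⟨r, hr'⟩ w hw
            refine mem_centralizer_singleton_iff.2 ?_
            by_cases hrq : r = q
            · subst hrq; exact mem_centralizer_iff.1 hn w hw
            · exact mem_centralizer_iff.1 (pow_mem (hKc r (Nat.prime_of_mem_primeFactors hr') hrq hk) _) w hw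
          exact mem_centralizer_iff.2 fun z hz => mem_centralizer_singleton_iff.1 (hle hz)
        have h := mem_centralizer_iff.1 (map_fitting_le_centralizer {q} hKc (mem_map_of_mem f hF)) z z.2
        simpa using h
    · obtain ⟨r, hr', hne⟩ := r
      have : Fact r.Prime := ⟨hr'⟩
      obtain ⟨n, hn⟩ := (action_pCore_of_narrow hodd hnar (r := r)).1 x hx
      obtain ⟨k, hk⟩ := hxq
      have hco : (orderOf x).Coprime (r ^ n) := by
        rw [hk]; exact Nat.Coprime.pow k n ((Nat.coprime_primes hq hr').2 (Ne.symm hne))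
      obtain ⟨m, hm⟩ := exists_pow_eq_self_of_coprime hco.symm
      rw [← hm]
      exact pow_mem hn m
  intro x hx
  set T := (fittingSubgroup G).subgroupOf (commutator G) with hT
  suffices h : T = ⊤ by exact (h ▸ mem_top _ : (⟨x, hx⟩ : commutator G) ∈ T)
  rw [← index_eq_one]
  by_contra hne
  obtain ⟨q, hq, hqd⟩ := Nat.exists_prime_and_dvd hne
  have : Fact q.Prime := ⟨hq⟩
  have S := (default : Sylow q (commutator G))
  refine S.not_dvd_index (hqd.trans (index_dvd_of_le fun y hy => ?_))
  obtain ⟨k, hk⟩ := IsPGroup.iff_orderOf.1 S.isPGroup' ⟨y, hy⟩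
  rw [Subgroup.orderOf_mk] at hk
  have h1 := key (y : G) y.2 q hq ⟨k, (Subgroup.orderOf_coe y).trans hk⟩
  have hpg : IsPGroup q (piCore {q} G) := IsPGroup.of_card
    (Nat.eq_prime_pow_of_unique_prime_dvd Nat.card_pos.ne' fun {d} hd hdd =>
      Set.mem_singleton_iff.1 (CfsgLib.OddLocal.Ten.prime_mem_piCore hd hdd))
  exact CfsgLib.Cores.pCore_le_fittingSubgroup q (CfsgLib.Cores.le_pCore hpg h1)

end Narrow

variable [Group.IsSolvable G] (hodd : Odd (Nat.card G)) (hr : RankLE 2 (fittingSubgroup G))
include hr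

omit [Group.IsSolvable G] in
/-- Rank two of `F(G)` makes each `O_r(G)` narrow. -/
theorem isNarrow_pCore_of_rankLE (r : ℕ) [Fact r.Prime] : IsNarrow r ↥(pCore r G) :=
  Or.inl ((CfsgLib.PGroup.pRankLE_subgroup_iff _).2 fun A hA hAe =>
    (CfsgLib.PGroup.pRankLE_subgroup_iff _).1 (hr r Fact.out) A
      (hA.trans (CfsgLib.Cores.pCore_le_fittingSubgroup r)) hAe)

include hodd

/-- What the action on `O_r(G)` gives. -/
theorem action_pCore {r : ℕ} [Fact r.Prime] :
    (∀ x ∈ commutator G, ∃ n : ℕ, x ^ r ^ n ∈ centralizer (pCore r G : Set G)) ∧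
      ∀ x : G, (∀ q : ℕ, q.Prime → q ∣ orderOf x → r < q) → x ∈ centralizer (pCore r G : Set G) :=
  action_pCore_of_narrow hodd (fun r _ => isNarrow_pCore_of_rankLE hr r)

/-- `G' ≤ F(G)`. -/
theorem commutator_le_fitting : commutator G ≤ fittingSubgroup G :=
  commutator_le_fitting_of_narrow hodd (fun r _ => isNarrow_pCore_of_rankLE hr r)

theorem isNilpotent_commutator : Group.IsNilpotent ↥(commutator G) :=
  Group.nilpotent_of_mulEquiv (_h := (by
    have := CfsgLib.Cores.isNilpotent_fittingSubgroup (G := G)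
    infer_instance : Group.IsNilpotent ((commutator G).subgroupOf (fittingSubgroup G))))
    (subgroupOfEquivOfLe (commutator_le_fitting hodd hr))

/-- A Sylow tower: the primes above any bound give a normal Hall subgroup. -/
theorem exists_hall_above (p : ℕ) :
    ∃ N : Subgroup G, N.Characteristic ∧ IsPiHall {q | q.Prime ∧ p < q} N := by
  set π := {q : ℕ | q.Prime ∧ p < q}
  refine ⟨piCore π G, CfsgLib.OddLocal.Ten.piCore_characteristic π,
    fun q hq hd => CfsgLib.OddLocal.Ten.prime_mem_piCore hq hd, fun q hq hqπ hd => ?_⟩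
  have : Fact q.Prime := ⟨hq⟩
  set rs := {r : ℕ | r.Prime ∧ r ≤ p}
  set M := ⨅ r : rs, centralizer (pCore (r : ℕ) G : Set G) with hM
  have hMn : M.Normal := normal_iInf_normal fun r => by
    have : (pCore (r : ℕ) G).Normal := Subgroup.sSup_normal _ fun _ h => h.1
    exact Subgroup.normal_centralizer
  have hMc : ∀ r : ℕ, r.Prime → r ∉ π → M ≤ centralizer (pCore r G : Set G) := fun r hr' hne =>
    iInf_le (fun r : rs => centralizer (pCore (r : ℕ) G : Set G)) ⟨r, hr', not_lt.1 fun h => hne ⟨hr', h⟩⟩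
  have S := (default : Sylow q G)
  refine S.not_dvd_index (hd.trans (index_dvd_of_le fun x hx => ?_))
  obtain ⟨k, hk⟩ := IsPGroup.iff_orderOf.1 S.isPGroup' ⟨x, hx⟩
  rw [Subgroup.orderOf_mk] at hk
  refine mem_piCore_of_nilpotent_map (K := M) ?_ hqπ (mem_iInf.2 fun r => ?_) ⟨k, hk⟩
  · apply Group.of_quotient_center_nilpotent
    set f := QuotientGroup.mk' (piCore π G)
    have hab : ∀ y z : M.map f ⧸ center (M.map f), y * z = z * y := by
      intro y z
      induction y using QuotientGroup.induction_on with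
      | _ y =>
        induction z using QuotientGroup.induction_on with
        | _ z =>
          rw [← commutatorElement_eq_one_iff_mul_comm]
          show QuotientGroup.mk' (center (M.map f)) ⁅y, z⁆ = 1
          rw [QuotientGroup.mk'_apply, QuotientGroup.eq_one_iff, mem_center_iff]
          obtain ⟨_, y', hy', rfl⟩ := y
          obtain ⟨_, z', hz', rfl⟩ := z
          intro w
          refine Subtype.ext ?_
          have hF : ⁅y', z'⁆ ∈ fittingSubgroup G := commutator_le_fitting hodd hr
            (by rw [_root_.commutator_def]; exact commutator_mem_commutator (mem_top _) (mem_top _))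
          have h := mem_centralizer_iff.1 (map_fitting_le_centralizer π hMc (mem_map_of_mem f hF)) w w.2
          simpa [map_commutatorElement, commutatorElement_def] using h
    let _ : CommGroup (M.map f ⧸ center (M.map f)) :=
      { (inferInstance : Group (M.map f ⧸ center (M.map f))) with mul_comm := hab }
    exact CommGroup.isNilpotent
  · obtain ⟨r, hr', hle⟩ := r
    have : Fact r.Prime := ⟨hr'⟩
    refine (action_pCore hodd hr (r := r)).2 x fun s hs hsd => ?_
    rw [(Nat.prime_dvd_prime_iff_eq hs hq).1 (hs.dvd_of_dvd_pow (hk ▸ hsd))]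
    exact lt_of_le_of_lt hle hqπ.2

/-- Characteristic subgroups of a Sylow subgroup inside its derived group are normal. -/
theorem normal_of_char_le_commutator (q : ℕ) [Fact q.Prime] (S : Sylow q G)
    (T : Subgroup ↥(S : Subgroup G)) (hT : T.Characteristic)
    (hle : T.map (S : Subgroup G).subtype ≤ ⁅(S : Subgroup G), (S : Subgroup G)⁆) :
    (T.map (S : Subgroup G).subtype).Normal := by
  set T' := T.map (S : Subgroup G).subtype with hT'
  set D := commutator G with hD
  have hTD : T' ≤ D := hle.trans (by rw [hD, _root_.commutator_def]; exact commutator_mono le_top le_top)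
  have hnil : Group.IsNilpotent D := isNilpotent_commutator hodd hr
  have hN : normalizer ((S : Subgroup G) : Set G) ≤ normalizer (T' : Set G) := by
    intro n hn
    rw [CfsgLib.Solvable.mem_normalizer_iff_conj_smul]
    refine CfsgLib.Solvable.conj_smul_eq_of_le ?_ le_rfl
    rw [CfsgLib.Solvable.conj_smul_le_iff]
    rintro _ ⟨t, ht, rfl⟩
    exact ⟨_, characteristic_iff_map_le.1 hT ((Subgroup.normalizerMonoidHom (S : Subgroup G)) ⟨n, hn⟩)
      (mem_map_of_mem _ ht), rfl⟩
  have hDN : D ≤ normalizer (T' : Set G) := by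
    intro x hx
    obtain ⟨a, b, rfl, ha, hb, ⟨k, hk⟩, hbc⟩ := CfsgLib.Cores.exists_pow_mul_pow q x
    refine mul_mem ?_ ?_
    · refine hN (le_normalizer (CfsgLib.Cores.pCore_le_sylow S ?_))
      exact CfsgLib.OddLocal.Ten.le_pCore_of_le_nilpotent hnil
        (IsPGroup.of_card (n := k) (by rw [Nat.card_zpowers, hk])) (zpowers_le.2 (zpowers_le.2 hx ha))
        (mem_zpowers a)
    · refine centralizer_le_normalizer _ (mem_centralizer_iff.2 fun t ht => ?_)
      refine CfsgLib.OddLocal.commute_of_mem_nilpotent hnil (hTD ht) (zpowers_le.2 hx hb) ?_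
      obtain ⟨t, ht', rfl⟩ := ht
      obtain ⟨j, hj⟩ := IsPGroup.iff_orderOf.1 S.isPGroup' t
      show (orderOf (t : G)).Coprime (orderOf b)
      rw [Subgroup.orderOf_coe, hj]
      exact Nat.Coprime.pow_left j hbc.symm
  have hHn : (D ⊔ (S : Subgroup G)).Normal := Subgroup.Normal.of_commutator_le _ le_sup_left
  have hSH : (S : Subgroup G) ≤ D ⊔ (S : Subgroup G) := le_sup_right
  have h := Sylow.normalizer_sup_eq_top (S.subtype hSH)
  rw [Sylow.coe_subtype, subgroupOf_map_subtype, inf_eq_left.2 hSH] at h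
  rw [← normalizer_eq_top_iff, ← top_le_iff, ← h]
  exact sup_le hN (sup_le hDN (le_normalizer.trans hN))

end CfsgLib.OddLocal.RankTwo
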