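import Cfsg.Agent.Lib.OddLocal.RankTwo.Narrow
import Cfsg.Agent.Lib.OddLocal.RankTwo.Coprime
import Cfsg.Agent.Lib.OddLocal.RankTwo.Structure
import Cfsg.Agent.Lib.OddLocal.Ten.PLengthTools

/-!
Consequences of the operator theorem for narrow groups: the `p`-structure of solvable groups of odd
order with a narrow Sylow subgroup, and the prime operators of large order.
-/

set_option autoImplicit false

namespace CfsgLib.OddLocal.RankTwo

open Cfsg Subgroup CfsgLib.PGroup
open scoped commutatorElement

universe u v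

theorem isNarrow_of_mulEquiv {p : ℕ} {R : Type u} {S : Type v} [Group R] [Group S] (e : R ≃* S)
    (h : IsNarrow p R) : IsNarrow p S := by
  rcases h with h | ⟨R₀, R₁, h0, h1, hinf, hcomm, hsup⟩
  · exact Or.inl (pRankLE_of_injective h e.symm.toMonoidHom e.symm.injective)
  refine Or.inr ⟨R₀.map e.toMonoidHom, R₁.map e.toMonoidHom, ?_, ?_, ?_, ?_, ?_⟩
  · rw [← h0]; exact Nat.card_congr (equivMapOfInjective R₀ e.toMonoidHom e.injective).symm.toEquiv
  · exact isCyclic_of_surjective (equivMapOfInjective R₁ e.toMonoidHom e.injective)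
      (equivMapOfInjective R₁ e.toMonoidHom e.injective).surjective
  · rw [← map_inf _ _ _ e.injective, hinf, Subgroup.map_bot]
  · rintro _ ⟨a, ha, rfl⟩ _ ⟨b, hb, rfl⟩
    show e a * e b = e b * e a
    rw [← map_mul, ← map_mul, hcomm a ha b hb]
  · rw [← Subgroup.map_sup, hsup]
    ext y
    constructor
    · rintro ⟨x, hx, rfl⟩
      refine mem_centralizer_iff.2 ?_
      rintro _ ⟨a, ha, rfl⟩
      show e a * e x = e x * e a
      rw [← map_mul, ← map_mul, mem_centralizer_iff.1 hx a ha]
    · intro hy
      refine ⟨e.symm y, mem_centralizer_iff.2 fun a ha => e.injective ?_, e.apply_symm_apply y⟩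
      rw [map_mul, map_mul, e.apply_symm_apply]
      exact mem_centralizer_iff.1 hy _ ⟨a, ha, rfl⟩

variable {p : ℕ} [hp : Fact p.Prime] {G : Type u} [Group G] [Finite G]

/-- The narrow case of the structure theorem. -/
theorem structure_narrow [Group.IsSolvable G] (hodd : Odd (Nat.card G)) (hpG : p ∣ Nat.card G)
    (S : Sylow p G) (hS : IsNarrow p ↥(S : Subgroup G))
    (hpl : ¬ PRankLE p 2 ↥(S : Subgroup G) → PLengthLE p 1 G) : PStructure p G := by
  by_cases hr : PRankLE p 2 ↥(S : Subgroup G)
  · refine structure_rank_two hodd hpG (pRankLE_iff.2 fun B hB => ?_)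
    obtain ⟨T, hT⟩ := (elemAb_isPGroup hB).exists_le_sylow
    obtain ⟨g, hg⟩ := MulAction.exists_smul_eq G S T
    have hT' : PRankLE p 2 ↥(T : Subgroup G) :=
      pRankLE_of_injective hr (hg ▸ S.equivSMul g).symm.toMonoidHom (hg ▸ S.equivSMul g).symm.injective
    exact (pRankLE_subgroup_iff _).1 hT' B hT hB
  have hp2 : p ≠ 2 := fun h => Nat.not_even_iff_odd.2 hodd (even_iff_two_dvd.2 (h ▸ hpG))
  set N := pPrimeCore p G with hN
  set π := QuotientGroup.mk' N
  have hn : (pCore p (G ⧸ N)).Normal := Subgroup.sSup_normal _ fun _ h => h.1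
  have hinj : Function.Injective (π.comp (S : Subgroup G).subtype) := by
    refine (injective_iff_map_eq_one _).2 fun s hs => Subtype.ext ?_
    have h1 : (s : G) ∈ N := (QuotientGroup.eq_one_iff _).1 hs
    obtain ⟨k, hk⟩ := S.isPGroup'.exists_card_eq
    exact orderOf_eq_one_iff.1 (Nat.eq_one_of_dvd_coprimes
      ((CfsgLib.Cores.coprime_card_pPrimeCore (G := G) p).pow_right k)
      (Subgroup.orderOf_dvd_natCard N h1) (hk ▸ Subgroup.orderOf_dvd_natCard _ s.2))
  have hSle : (S : Subgroup G) ≤ pPrimePCore p G := by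
    have hnP : (pPrimePCore p G).Normal := hn.comap π
    intro s hs
    have h1 := CfsgLib.OddLocal.Ten.index_pPrimePCore (hpl hr)
    obtain ⟨k, hk⟩ := S.isPGroup'.exists_card_eq
    have h2 : (orderOf (s : G ⧸ pPrimePCore p G)) = 1 := by
      refine Nat.eq_one_of_dvd_coprimes (h1.pow_right k) ?_ ((orderOf_map_dvd (QuotientGroup.mk' _) s).trans
        (hk ▸ Subgroup.orderOf_dvd_natCard _ hs))
      rw [index_eq_card]; exact orderOf_dvd_natCard _
    exact (QuotientGroup.eq_one_iff s).1 (orderOf_eq_one_iff.1 h2)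
  have himg : (π.comp (S : Subgroup G).subtype).range = pCore p (G ⧸ N) := by
    rw [MonoidHom.range_comp, Subgroup.range_subtype]
    refine eq_of_le_of_card_ge (map_le_iff_le_comap.2 hSle) ?_
    have hSm : IsPGroup p ((S : Subgroup G).map π) := S.isPGroup'.map π
    obtain ⟨k, hk⟩ := (CfsgLib.Cores.isPGroup_pCore (G := G ⧸ N) p).exists_card_eq
    have hdvd : p ^ k ∣ Nat.card (G ⧸ N) := hk ▸ card_subgroup_dvd_card _
    have h2 := (S.mapSurjective (QuotientGroup.mk'_surjective N)).pow_dvd_card_of_pow_dvd_card hdvd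
    rw [hk]
    exact Nat.le_of_dvd Nat.card_pos h2
  have hnar : IsNarrow p ↥(pCore p (G ⧸ N)) :=
    isNarrow_of_mulEquiv ((MonoidHom.ofInjective hinj).trans (MulEquiv.subgroupCongr himg)) hS
  have hoddQ : Odd (Nat.card (G ⧸ N)) := hodd.of_dvd_nat (card_quotient_dvd_card N)
  obtain ⟨h1, h2, -⟩ := operator_narrow (CfsgLib.Cores.isPGroup_pCore (G := G ⧸ N) p) hp2 hnar hoddQ
    (MulAut.conjNormal (H := pCore p (G ⧸ N)))
    (fun a ha h => faithful_conj_pCore (CfsgLib.Cores.pPrimeCore_quotient_self p) a ha h)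
  exact structure_of_quotient hodd h1 fun q hq hne hd => (h2 q hq hne hd).2

/-- A Sylow `p`-subgroup containing the derived group is the `p`-core. -/
theorem index_pCore_of_commutator (h : commutator G ≤ pCore p G) :
    ((pCore p G).index).Coprime p := by
  refine ((hp.out.coprime_iff_not_dvd).2 fun hd => ?_).symm
  have S := (default : Sylow p G)
  have hSn : (S : Subgroup G).Normal :=
    Subgroup.Normal.of_commutator_le _ (h.trans (CfsgLib.Cores.pCore_le_sylow S))
  exact S.not_dvd_index (hd.trans (index_dvd_of_le (CfsgLib.Cores.le_pCore (hN := S.isPGroup'))))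

variable {R : Type u} [Group R] [Finite R]

/-- An operator of prime order `q ∤ p (p - 1)` generating a nonabelian group of rank at most two. -/
theorem card_of_prime_operator (hR : IsPGroup p R) (hp2 : p ≠ 2) (hr : PRankLE p 2 R) {A : Type v}
    [Group A] [Finite A] (hodd : Odd (Nat.card A)) (hA : (Nat.card A).Prime)
    (hAd : ¬ Nat.card A ∣ p * (p - 1)) {ψ : A →* MulAut R} (hgen : Generates ψ)
    (hnc : ¬ ∀ a b : R, a * b = b * a) : Nat.card R = p ^ 3 := by
  have hcop : (Nat.card A).Coprime p :=
    (Nat.coprime_primes hA hp.out).2 fun e => hAd (e ▸ dvd_mul_right p (p - 1))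
  have hnt : Nontrivial R := by
    by_contra h
    rw [not_nontrivial_iff_subsingleton] at h
    exact hnc fun a b => Subsingleton.elim _ _
  obtain ⟨-, habel | ⟨R₁, R₂, hsup, hcomm, hnc1, hcard, -, hcyc, hcl⟩⟩ :=
    coprime_structure hp2 hR hnt hr hcop hodd hgen
  · exact absurd habel hnc
  have hR2c : R₂ ≤ center R := fun b hb => mem_center_iff.2 fun g => by
    have : (⊤ : Subgroup R) ≤ centralizer ({b} : Set R) := hsup ▸ sup_le
      (fun a ha => mem_centralizer_singleton_iff.2 (hcomm a ha b hb))
      (fun a ha => mem_centralizer_singleton_iff.2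
        (congrArg Subtype.val (hcyc.isMulCommutative.is_comm.comm (⟨a, ha⟩ : R₂) ⟨b, hb⟩)))
    exact mem_centralizer_singleton_iff.1 (this (mem_top g))
  have hR2n : R₂.Normal := ⟨fun b hb g => by
    rwa [mem_center_iff.1 (hR2c hb) g, mul_inv_cancel_right]⟩
  have hdec : ∀ y : R, ∃ a ∈ R₁, ∃ b ∈ R₂, a * b = y := fun y =>
    mem_sup_of_normal_right.1 (hsup ▸ mem_top y)
  have hcenR : center R = R₂ := by
    refine le_antisymm (fun y hy => ?_) hR2c
    obtain ⟨a, ha, b, hb, rfl⟩ := hdec y
    refine mul_mem ?_ hb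
    have hac : a ∈ center R := (Subgroup.mul_mem_cancel_right _ (hR2c hb)).1 hy
    have hmem : (⟨a, ha⟩ : R₁) ∈ center R₁ :=
      mem_center_iff.2 fun g => Subtype.ext (mem_center_iff.1 hac g)
    rw [CfsgLib.OddLocal.Ten.center_eq_commutator_of_card_cube hcard hnc1] at hmem
    have h2 : a ∈ ⁅R₁, R₁⁆ := by
      rw [← map_subtype_commutator]; exact ⟨_, hmem, rfl⟩
    rw [← hcl] at h2
    exact (closure_le R₂).2 (fun t ht => ht.1) h2
  have hD : commutator R ≤ R₁ := by
    rw [_root_.commutator_def, commutator_le]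
    intro y _ w _
    obtain ⟨a, ha, b, hb, rfl⟩ := hdec y
    obtain ⟨c, hc, d, hd, rfl⟩ := hdec w
    have hz : ∀ {e : R}, e ∈ R₂ → ∀ g : R, ⁅e, g⁆ = 1 ∧ ⁅g, e⁆ = 1 := fun he g =>
      ⟨commutatorElement_eq_one_iff_mul_comm.2 (mem_center_iff.1 (hR2c he) g).symm,
        commutatorElement_eq_one_iff_mul_comm.2 (mem_center_iff.1 (hR2c he) g)⟩
    rw [comm_mul_left (by rw [(hz hb _).1]; exact one_mem _), (hz hb _).1, mul_one,
      comm_mul_right (by rw [(hz hd _).2]; exact one_mem _), (hz hd _).2, mul_one]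
    rw [commutatorElement_def]
    exact mul_mem (mul_mem (mul_mem ha hc) (inv_mem ha)) (inv_mem hc)
  -- the operator fixes the centre
  have hfix : ∀ a : A, ∀ y ∈ center R, ψ a y = y := by
    intro a y hy
    have hcyc' : IsCyclic (center R) := hcenR ▸ hcyc
    let θ : A →* (ZMod (Nat.card (center R)))ˣ :=
      (IsCyclic.mulAutMulEquiv (center R)).toMonoidHom.comp ((MulAut.characteristic (center R)).comp ψ)
    obtain ⟨k, hk⟩ := (hR.to_subgroup (center R)).exists_card_eq
    have hu : Nat.card (ZMod (Nat.card (center R)))ˣ ∣ p ^ k * (p - 1) := by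
      rw [Nat.card_eq_fintype_card, ZMod.card_units_eq_totient, hk]
      rcases Nat.eq_zero_or_pos k with rfl | hk0
      · simp
      · rw [Nat.totient_prime_pow hp.out hk0]
        exact Nat.mul_dvd_mul_right (pow_dvd_pow p (Nat.sub_le k 1)) _
    have hone : θ a = 1 := by
      rw [← orderOf_eq_one_iff]
      refine Nat.eq_one_of_dvd_coprimes ((hA.coprime_iff_not_dvd).2 fun h => ?_)
        ((orderOf_map_dvd θ a).trans (orderOf_dvd_natCard a)) ((orderOf_dvd_natCard (θ a)).trans hu)
      rcases hA.dvd_mul.1 h with h | h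
      · exact hAd ((hA.dvd_of_dvd_pow h).mul_right _)
      · exact hAd (h.mul_left _)
    have hone' : MulAut.characteristic (center R) (ψ a) = 1 :=
      (IsCyclic.mulAutMulEquiv (center R)).injective (hone.trans (map_one _).symm)
    exact congrArg Subtype.val (DFunLike.congr_fun hone' (⟨y, hy⟩ : center R))
  -- no fixed points on the abelian quotient
  have hle : R₂ ≤ commutator R := by
    by_contra hnot
    obtain ⟨b, hb, hbD⟩ := SetLike.not_le_iff_exists.1 hnot
    let _ : CommGroup (R ⧸ commutator R) :=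
      { (inferInstance : Group (R ⧸ commutator R)) with
        mul_comm := fun a b => by
          induction a using QuotientGroup.induction_on with
          | _ a =>
            induction b using QuotientGroup.induction_on with
            | _ b =>
              rw [← commutatorElement_eq_one_iff_mul_comm]
              show QuotientGroup.mk' (commutator R) ⁅a, b⁆ = 1
              exact (QuotientGroup.eq_one_iff _).2
                (by rw [_root_.commutator_def]; exact commutator_mem_commutator (mem_top a) (mem_top b)) }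
    refine closure_ne_top_of_fixed ((quotChar (commutator R)).comp ψ) (v := (b : R ⧸ commutator R))
      (fun e => hbD ((QuotientGroup.eq_one_iff b).1 e))
      (fun a => congrArg (QuotientGroup.mk (s := commutator R)) (hfix a b (hR2c hb))) ?_
      (hgen.quotient (commutator R))
    obtain ⟨k, hk⟩ := hR.exists_card_eq
    exact Nat.Coprime.coprime_dvd_right
      (((orderOf_map_dvd (QuotientGroup.mk' _) b).trans (orderOf_dvd_natCard b)).trans hk.dvd) (hcop.pow_right k)
  rw [← hcard, show R₁ = ⊤ from top_le_iff.1 (hsup.ge.trans (sup_le le_rfl (hle.trans hD))), card_top]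

end CfsgLib.OddLocal.RankTwo
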