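import Cfsg.Agent.Lib.OddLocal.RankTwo.Coprime
import Cfsg.Agent.Lib.Fusion.MetaOmega

/-!
Coprime operators on metacyclic `p`-groups, `p` odd: `[R, A]` is abelian.
-/

set_option autoImplicit false
set_option linter.unusedSectionVars false

namespace CfsgLib.OddLocal.RankTwo

open Cfsg Subgroup CfsgLib.PGroup
open scoped commutatorElement

universe u v

variable {p : ℕ} [hp : Fact p.Prime]

/-- A group embedded in a metacyclic group is metacyclic. -/
theorem isMetacyclic_of_injective {R : Type u} [Group R] {H : Type v} [Group H] (h : IsMetacyclic R)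
    (f : H →* R) (hf : Function.Injective f) : IsMetacyclic H := by
  obtain ⟨N, hN, hNc, hQ⟩ := h
  refine ⟨N.comap f, hN.comap f, ?_, ?_⟩
  · exact isCyclic_of_injective ((f.comp (N.comap f).subtype).codRestrict N fun x => x.2)
      fun a b hab => Subtype.ext (hf (Subtype.mk.inj hab))
  · refine isCyclic_of_injective (QuotientGroup.map (N.comap f) N f le_rfl)
      ((injective_iff_map_eq_one _).2 fun y hy => ?_)
    induction y using QuotientGroup.induction_on with
    | _ y => exact (QuotientGroup.eq_one_iff y).2 (mem_comap.2 ((QuotientGroup.eq_one_iff (f y)).1 hy))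

variable {R : Type u} [Group R] [Finite R] {A : Type v} [Group A] [Finite A]

/-- A metacyclic `p`-group, `p` odd, with `[R, A] = R` for coprime operators is abelian. -/
theorem comm_of_metacyclic_generates (hR : IsPGroup p R) (hp2 : p ≠ 2) (hm : IsMetacyclic R)
    {ψ : A →* MulAut R} (hA : (Nat.card A).Coprime p) (hgen : Generates ψ) (a b : R) :
    a * b = b * a := by
  obtain ⟨N, hN, hNc, hQ⟩ := hm
  by_contra hne
  set D := commutator R with hD
  have hDN : D ≤ N := by
    have := hQ.isMulCommutative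
    rw [hD, _root_.commutator_def, commutator_le]
    intro x _ y _
    rw [← QuotientGroup.eq_one_iff, ← QuotientGroup.mk'_apply, map_commutatorElement,
      commutatorElement_eq_one_iff_mul_comm]
    exact this.is_comm.comm _ _
  set M := closure {w : R | ∃ d ∈ D, d ^ p = w} with hM
  have hMD : M ≤ D := (closure_le _).2 fun w ⟨d, hd, e⟩ => e ▸ pow_mem hd p
  have hMc : M.Characteristic := characteristic_iff_map_le.2 fun φ => by
    rw [hM, MonoidHom.map_closure]
    refine closure_mono ?_
    rintro _ ⟨_, ⟨d, hd, rfl⟩, rfl⟩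
    exact ⟨φ d, characteristic_iff_map_le.1 (inferInstance : D.Characteristic) φ (mem_map_of_mem _ hd),
      (map_pow _ _ _).symm⟩
  have : IsCyclic D := isCyclic_of_injective (Subgroup.inclusion hDN) (inclusion_injective _)
  have hMne : M ≠ D := by
    intro e
    obtain ⟨g, hg⟩ := IsCyclic.exists_generator (α := D)
    have hle : M ≤ zpowers ((g : R) ^ p) := (closure_le _).2 fun w ⟨d, hd, e'⟩ => by
      obtain ⟨i, hi⟩ := mem_zpowers_iff.1 (hg ⟨d, hd⟩)
      refine mem_zpowers_iff.2 ⟨i, ?_⟩
      rw [← e', ← show ((g : R)) ^ i = d from congrArg Subtype.val hi, ← zpow_natCast, ← zpow_natCast,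
        ← zpow_mul, ← zpow_mul, mul_comm]
    have h1 := card_le_of_le (e.ge.trans hle : D ≤ zpowers ((g : R) ^ p))
    rw [Nat.card_zpowers] at h1
    have hgo : orderOf (g : R) = Nat.card D := by
      rw [Subgroup.orderOf_coe, orderOf_eq_card_of_forall_mem_zpowers hg]
    obtain ⟨n, hn⟩ := (hR.to_subgroup D).exists_card_eq
    rcases n with _ | n
    · refine hne (commutatorElement_eq_one_iff_mul_comm.1 (mem_bot.1 ?_))
      have h2 : D = ⊥ := Subgroup.card_eq_one.1 (by simpa using hn)
      rw [← h2, hD, _root_.commutator_def]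
      exact commutator_mem_commutator (mem_top _) (mem_top _)
    · rw [orderOf_pow, hgo, hn, Nat.gcd_eq_right (dvd_pow_self p n.succ_ne_zero), pow_succ,
        Nat.mul_div_cancel _ hp.out.pos] at h1
      exact (lt_mul_of_one_lt_right (pow_pos hp.out.pos n) hp.out.one_lt).not_ge h1
  -- the quotient
  set π := QuotientGroup.mk' M with hπdef
  have hπ : Function.Surjective π := QuotientGroup.mk'_surjective M
  have hQp : IsPGroup p (R ⧸ M) := hR.to_quotient M
  set D' := D.map π
  have hD'n : D'.Normal := (inferInstance : D.Normal).map π hπ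
  have hD'exp : ∀ d ∈ D', d ^ p = 1 := by
    rintro _ ⟨d, hd, rfl⟩
    rw [← map_pow]
    exact (QuotientGroup.eq_one_iff _).2 (Subgroup.subset_closure ⟨d, hd, rfl⟩)
  have hD'ne : D' ≠ ⊥ := fun e => hMne (le_antisymm hMD (by
    have := (Subgroup.map_eq_bot_iff D).1 e
    rwa [QuotientGroup.ker_mk'] at this))
  have hD'c : IsCyclic D' := isCyclic_of_surjective (π.subgroupMap D) (MonoidHom.subgroupMap_surjective _ _)
  have hD'card : Nat.card D' = p := by
    refine le_antisymm ?_ (Nat.le_of_dvd Nat.card_pos (dvd_card_of_ne_bot hQp hD'ne))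
    rw [← IsCyclic.exponent_eq_card]
    exact Nat.le_of_dvd hp.out.pos (Monoid.exponent_dvd_of_forall_pow_eq_one fun y =>
      Subtype.ext (hD'exp y y.2))
  have hD'Z : D' ≤ center (R ⧸ M) := le_center_of_card_eq hQp D' hD'card
  have hcomm : ∀ x y : R ⧸ M, ⁅x, y⁆ ∈ D' := fun x y => by
    obtain ⟨x, rfl⟩ := hπ x
    obtain ⟨y, rfl⟩ := hπ y
    rw [← map_commutatorElement]
    exact mem_map_of_mem π (by
      rw [hD, _root_.commutator_def]; exact commutator_mem_commutator (mem_top _) (mem_top _))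
  have hexp : ∀ x y : R ⧸ M, ⁅x, y⁆ ^ p = 1 := fun x y => hD'exp _ (hcomm x y)
  let P : (R ⧸ M) →* (R ⧸ M) :=
    { toFun := fun x => x ^ p
      map_one' := one_pow p
      map_mul' := fun x y => by
        rw [mul_pow_of_comm_mem_center (hD'Z (hcomm y x))]
        obtain ⟨k, hk⟩ := hp.out.dvd_choose_self two_ne_zero (lt_of_le_of_ne hp.out.two_le (Ne.symm hp2))
        rw [hk, pow_mul, hexp, one_pow, mul_one] }
  have hP : P.range ≤ center (R ⧸ M) := by
    rintro _ ⟨x, rfl⟩
    refine mem_center_iff.2 fun g => (commutatorElement_eq_one_iff_mul_comm.1 ?_).symm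
    show ⁅x ^ p, g⁆ = 1
    rw [comm_pow_left (hD'Z (hcomm x g)), hexp]
  -- a nontrivial commutator
  obtain ⟨a₀, b₀, hne₀⟩ : ∃ a₀ b₀ : R ⧸ M, ⁅a₀, b₀⁆ ≠ 1 := by
    by_contra h
    push Not at h
    refine hMne (le_antisymm hMD ?_)
    rw [hD, _root_.commutator_def, commutator_le]
    intro x _ y _
    rw [← QuotientGroup.eq_one_iff]
    show π ⁅x, y⁆ = 1
    rw [map_commutatorElement]; exact h _ _
  -- `N` maps onto a cyclic group containing the derived group as `p`-th powers
  set N' := N.map π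
  have hN'n : N'.Normal := hN.map π hπ
  have hN'c : IsCyclic N' := isCyclic_of_surjective (π.subgroupMap N) (MonoidHom.subgroupMap_surjective _ _)
  obtain ⟨⟨g, hgN⟩, hg⟩ := IsCyclic.exists_generator (α := N')
  have hgo : orderOf g = Nat.card N' := by
    rw [← Subgroup.orderOf_mk g hgN, orderOf_eq_card_of_forall_mem_zpowers hg]
  obtain ⟨x, hx⟩ := IsCyclic.exists_generator (α := R ⧸ N)
  obtain ⟨x, rfl⟩ := QuotientGroup.mk'_surjective N x
  have hdec : ∀ y : R ⧸ M, ∃ i j : ℤ, y = g ^ i * π x ^ j := by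
    intro y
    obtain ⟨y, rfl⟩ := hπ y
    obtain ⟨j, hj⟩ := mem_zpowers_iff.1 (hx (QuotientGroup.mk' N y))
    have hmem : y * (x ^ j)⁻¹ ∈ N := by
      rw [← QuotientGroup.eq_one_iff]
      show QuotientGroup.mk' N (y * (x ^ j)⁻¹) = 1
      rw [map_mul, map_inv, map_zpow, hj, mul_inv_cancel]
    obtain ⟨i, hi⟩ := mem_zpowers_iff.1 (hg ⟨_, mem_map_of_mem π hmem⟩)
    refine ⟨i, j, ?_⟩
    rw [show g ^ i = π (y * (x ^ j)⁻¹) from congrArg Subtype.val hi, map_mul, map_inv, map_zpow,
      inv_mul_cancel_right]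
  obtain ⟨n, hn⟩ := (hQp.to_subgroup N').exists_card_eq
  have hn2 : 2 ≤ n := by
    by_contra hlt
    have hNZ : N' ≤ center (R ⧸ M) := by
      rcases Nat.lt_or_ge n 1 with h | h
      · rw [show N' = ⊥ from Subgroup.card_eq_one.1 (by rw [hn, show n = 0 by omega, pow_zero])]
        exact bot_le
      · exact le_center_of_card_eq hQp N' (by rw [hn, show n = 1 by omega, pow_one])
    obtain ⟨i, j, ea⟩ := hdec a₀
    obtain ⟨k, l, eb⟩ := hdec b₀
    refine hne₀ (commutatorElement_eq_one_iff_mul_comm.2 ?_)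
    have hc : ∀ (i : ℤ) (y : R ⧸ M), Commute (g ^ i) y := fun i y =>
      (mem_center_iff.1 (hNZ (zpow_mem hgN i)) y).symm
    rw [ea, eb]
    exact (((hc i _).mul_left ((hc k _).symm.mul_right (Commute.zpow_zpow rfl j l)))).eq
  have hDP : ∀ d ∈ D', d ∈ P.range := by
    intro d hd
    have hdN : d ∈ N' := map_mono hDN hd
    obtain ⟨i, hi⟩ := mem_zpowers_iff.1 (hg ⟨d, hdN⟩)
    have hid : g ^ i = d := congrArg Subtype.val hi
    have hpi : (p : ℤ) ∣ i := by
      have h1 : g ^ (i * (p : ℤ)) = 1 := by rw [zpow_mul, hid, zpow_natCast, hD'exp d hd]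
      have h2 := orderOf_dvd_iff_zpow_eq_one.2 h1
      rw [hgo, hn] at h2
      have h3 : ((p : ℤ) * p) ∣ i * p := by
        refine dvd_trans ?_ h2
        rw [← Int.natCast_mul, ← pow_two]
        exact_mod_cast pow_dvd_pow p hn2
      exact Int.dvd_of_mul_dvd_mul_right (by exact_mod_cast hp.out.ne_zero) h3
    obtain ⟨k, rfl⟩ := hpi
    exact ⟨g ^ k, by show (g ^ k) ^ p = d; rw [← zpow_natCast, ← zpow_mul, mul_comm, hid]⟩
  have hidx : P.range.index ≤ p ^ 2 := by
    have hPn : P.range.Normal := ⟨fun y hy t => by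
      rwa [mem_center_iff.1 (hP hy) t, mul_inv_cancel_right]⟩
    have hsur : Function.Surjective fun q : Fin p × Fin p =>
        QuotientGroup.mk' P.range (g ^ (q.1 : ℕ) * π x ^ (q.2 : ℕ)) := by
      intro y
      obtain ⟨y, rfl⟩ := QuotientGroup.mk'_surjective _ y
      obtain ⟨i, j, rfl⟩ := hdec y
      have hp0 : (p : ℤ) ≠ 0 := by exact_mod_cast hp.out.ne_zero
      have hred : ∀ (z : R ⧸ M) (i : ℤ), QuotientGroup.mk' P.range (z ^ i) =
          QuotientGroup.mk' P.range (z ^ ((i % p).toNat)) := by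
        intro z i
        have hzp : QuotientGroup.mk' P.range z ^ (p : ℤ) = 1 := by
          rw [← map_zpow, zpow_natCast]
          exact (QuotientGroup.eq_one_iff _).2 ⟨z, rfl⟩
        rw [map_zpow, map_pow, ← zpow_natCast _ (i % p).toNat,
          Int.toNat_of_nonneg (Int.emod_nonneg i hp0)]
        conv_lhs => rw [← Int.emod_add_mul_ediv i p]
        rw [zpow_add, zpow_mul, hzp, one_zpow, mul_one]
      have hlt : ∀ i : ℤ, (i % p).toNat < p := fun i => by
        have h1 := Int.emod_lt_of_pos i (by exact_mod_cast hp.out.pos : (0 : ℤ) < p)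
        have h2 := Int.emod_nonneg i hp0
        omega
      exact ⟨(⟨_, hlt i⟩, ⟨_, hlt j⟩), by
        simp only [map_mul]
        rw [← hred g i, ← hred (π x) j]⟩
    rw [index_eq_card]
    refine (Nat.card_le_card_of_surjective _ hsur).trans ?_
    rw [Nat.card_prod, Nat.card_fin, pow_two]
  exact false_of_central_powers hQp (ψ := (quotChar M).comp ψ) hA (hgen.quotient M) P (fun x => rfl)
    hP hidx (fun x y => hDP _ (hcomm x y)) hexp hne₀

end CfsgLib.OddLocal.RankTwo
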