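import Cfsg.Agent.Lib.PStab.GL2
import Mathlib

/-!
Solvable groups of odd order in dimension two: a common eigenvector, and a derived group of
exponent `p` in characteristic `p`.
-/

set_option autoImplicit false

namespace CfsgLib.OddLocal.RankTwo

open Matrix
open scoped commutatorElement

universe u

variable {K : Type*} [Field K]

/-- The elements fixing the line through `v`. -/
def lineStab {H : Type*} [Group H] (ρ : H →* Matrix (Fin 2) (Fin 2) K) {v : Fin 2 → K} (hv : v ≠ 0) :
    Subgroup H where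
  carrier := {g | ∃ c : K, ρ g *ᵥ v = c • v}
  one_mem' := ⟨1, by rw [map_one, Matrix.one_mulVec, one_smul]⟩
  mul_mem' := by
    rintro a b ⟨c, hc⟩ ⟨d, hd⟩
    exact ⟨d * c, by rw [map_mul, ← Matrix.mulVec_mulVec, hd, Matrix.mulVec_smul, hc, smul_smul]⟩
  inv_mem' := by
    rintro a ⟨c, hc⟩
    have h1 : ρ a⁻¹ *ᵥ (ρ a *ᵥ v) = v := by
      rw [Matrix.mulVec_mulVec, ← map_mul, inv_mul_cancel, map_one, Matrix.one_mulVec]
    rw [hc, Matrix.mulVec_smul] at h1
    have hc0 : c ≠ 0 := fun h => hv (by rw [← h1, h, zero_smul])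
    exact ⟨c⁻¹, by rw [eq_inv_smul_iff₀ hc0, h1]⟩

theorem mem_lineStab {H : Type*} [Group H] {ρ : H →* Matrix (Fin 2) (Fin 2) K} {v : Fin 2 → K}
    {hv : v ≠ 0} {g : H} : g ∈ lineStab ρ hv ↔ ∃ c : K, ρ g *ᵥ v = c • v := Iff.rfl

theorem mulVec_ne_zero {H : Type*} [Group H] (ρ : H →* Matrix (Fin 2) (Fin 2) K) (g : H)
    {v : Fin 2 → K} (hv : v ≠ 0) : ρ g *ᵥ v ≠ 0 := fun h => hv (by
  have h1 : ρ g⁻¹ *ᵥ (ρ g *ᵥ v) = v := by
    rw [Matrix.mulVec_mulVec, ← map_mul, inv_mul_cancel, map_one, Matrix.one_mulVec]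
  rw [h, Matrix.mulVec_zero] at h1
  exact h1.symm)

theorem exists_eigen [IsAlgClosed K] (A : Matrix (Fin 2) (Fin 2) K) :
    ∃ v : Fin 2 → K, v ≠ 0 ∧ ∃ c : K, A *ᵥ v = c • v := by
  obtain ⟨c, hc⟩ := Module.End.exists_eigenvalue (Matrix.toLin' A)
  obtain ⟨v, hv⟩ := hc.exists_hasEigenvector
  exact ⟨v, hv.2, c, by rw [← Matrix.toLin'_apply]; exact hv.apply_eq_smul⟩

/-- A solvable group of odd order in dimension two has a common eigenvector. -/
theorem exists_common_eigen_odd [IsAlgClosed K] : ∀ (n : ℕ) (H : Type u) [Group H] [Finite H],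
    Nat.card H = n → Group.IsSolvable H → Odd (Nat.card H) →
    ∀ ρ : H →* Matrix (Fin 2) (Fin 2) K, ∃ v : Fin 2 → K, ∃ hv : v ≠ 0, lineStab ρ hv = ⊤ := by
  intro n
  induction n using Nat.strong_induction_on with
  | _ n ih =>
    intro H _ _ hn hsol hodd ρ
    rcases subsingleton_or_nontrivial H with h | h
    · obtain ⟨v, hv, -⟩ := exists_eigen (ρ 1)
      exact ⟨v, hv, (Subgroup.eq_top_iff' _).2 fun g => by
        rw [Subsingleton.elim g 1]; exact one_mem _⟩
    have := hsol
    obtain ⟨N, hN, hle⟩ := (eq_top_or_exists_le_coatom (commutator H)).resolve_left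
      (Group.IsSolvable.commutator_lt_top_of_nontrivial (G := H)).ne
    have hNn : N.Normal := Subgroup.Normal.of_commutator_le _ hle
    obtain ⟨g, hg⟩ : ∃ g, g ∉ N := by
      by_contra hall
      push Not at hall
      exact hN.1 ((Subgroup.eq_top_iff' _).2 hall)
    have hlt : Nat.card N < n := by
      refine hn ▸ lt_of_le_of_ne (Nat.le_of_dvd Nat.card_pos (Subgroup.card_subgroup_dvd_card N)) ?_
      exact fun e => hN.1 (Subgroup.eq_top_of_card_eq N e)
    obtain ⟨v, hv, hvN⟩ := ih _ hlt N rfl inferInstance (hodd.of_dvd_nat (Subgroup.card_subgroup_dvd_card N))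
      (ρ.comp N.subtype)
    have hNv : ∀ x ∈ N, ∃ c : K, ρ x *ᵥ v = c • v := fun x hx => by
      have h1 : (⟨x, hx⟩ : N) ∈ lineStab (ρ.comp N.subtype) hv := hvN.symm ▸ Subgroup.mem_top _
      exact h1
    -- it is enough to fix one more element
    suffices hsuff : ∃ u : Fin 2 → K, ∃ hu : u ≠ 0, N ≤ lineStab ρ hu ∧ g ∈ lineStab ρ hu by
      obtain ⟨u, hu, h1, h2⟩ := hsuff
      exact ⟨u, hu, hN.2 _ (lt_of_le_of_ne h1 fun e => hg (e ▸ h2))⟩
    by_cases hscal : ∀ x ∈ N, ∃ c : K, ρ x = c • (1 : Matrix (Fin 2) (Fin 2) K)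
    · obtain ⟨u, hu, c, hc⟩ := exists_eigen (ρ g)
      refine ⟨u, hu, fun x hx => ?_, c, hc⟩
      obtain ⟨d, hd⟩ := hscal x hx
      exact ⟨d, by rw [hd, Matrix.smul_mulVec, Matrix.one_mulVec]⟩
    set w := ρ g *ᵥ v with hw
    have hw0 : w ≠ 0 := mulVec_ne_zero ρ g hv
    have hNw : ∀ x ∈ N, ∃ c : K, ρ x *ᵥ w = c • w := fun x hx => by
      obtain ⟨c, hc⟩ := hNv (g⁻¹ * x * g) (by simpa using hNn.conj_mem x hx g⁻¹)
      refine ⟨c, ?_⟩
      rw [hw, Matrix.mulVec_mulVec, ← map_mul, show x * g = g * (g⁻¹ * x * g) by group, map_mul,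
        ← Matrix.mulVec_mulVec, hc, Matrix.mulVec_smul]
    refine ⟨v, hv, fun x hx => hNv x hx, ?_⟩
    by_cases hd : v 0 * w 1 - v 1 * w 0 = 0
    · exact CfsgLib.PStab.exists_eq_smul_of_det_eq_zero hv hd
    -- write `g w` in the basis `v, w`
    set d := v 0 * w 1 - v 1 * w 0 with hddef
    set z := ρ g *ᵥ w with hz
    set a := (z 0 * w 1 - z 1 * w 0) / d
    set b := (v 0 * z 1 - v 1 * z 0) / d
    have hzab : z = a • v + b • w := by
      funext i
      simp only [Pi.add_apply, Pi.smul_apply, smul_eq_mul, a, b]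
      rw [div_mul_eq_mul_div, div_mul_eq_mul_div, ← add_div, eq_div_iff hd, hddef]
      fin_cases i <;> simp <;> ring
    by_cases hb : b = 0
    · -- the square fixes the line
      have h2 : g ^ 2 ∈ lineStab ρ hv := ⟨a, by
        rw [pow_two, map_mul, ← Matrix.mulVec_mulVec, ← hw, ← hz, hzab, hb, zero_smul, add_zero]⟩
      obtain ⟨k, hk⟩ := hodd.of_dvd_nat (orderOf_dvd_natCard g)
      have : g = (g ^ 2) ^ (k + 1) := by
        rw [← pow_mul, show 2 * (k + 1) = orderOf g + 1 by omega, pow_succ, pow_orderOf_eq_one, one_mul]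
      rw [this]
      exact pow_mem h2 _
    exfalso
    by_cases ha : a = 0
    · rw [ha, zero_smul, zero_add, hz] at hzab
      have h1 := congrArg (fun t => ρ g⁻¹ *ᵥ t) hzab
      simp only [hw, Matrix.mulVec_smul, Matrix.mulVec_mulVec, ← map_mul, inv_mul_cancel, map_one,
        Matrix.one_mulVec] at h1
      rw [← mul_assoc, inv_mul_cancel, one_mul] at h1
      apply hd
      rw [hddef, hw, h1]
      simp [Pi.smul_apply]
      ring
    apply hscal
    intro x hx
    obtain ⟨c, hc⟩ := hNv x hx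
    obtain ⟨e, he⟩ := hNw x hx
    obtain ⟨f, hf⟩ : ∃ f : K, ρ x *ᵥ z = f • z := by
      obtain ⟨f, hf⟩ := hNw (g⁻¹ * x * g) (by simpa using hNn.conj_mem x hx g⁻¹)
      refine ⟨f, ?_⟩
      rw [hz, Matrix.mulVec_mulVec, ← map_mul, show x * g = g * (g⁻¹ * x * g) by group, map_mul,
        ← Matrix.mulVec_mulVec, hf, Matrix.mulVec_smul]
    rw [hzab, Matrix.mulVec_add, Matrix.mulVec_smul, Matrix.mulVec_smul, hc, he] at hf
    have h0 := congrFun hf 0
    have h1 := congrFun hf 1
    simp only [Pi.add_apply, Pi.smul_apply, smul_eq_mul] at h0 h1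
    have hcf : c = f := by
      refine mul_left_cancel₀ (mul_ne_zero ha hd) ?_
      rw [hddef]
      linear_combination (w 1) * h0 - (w 0) * h1
    have hef : e = f := by
      refine mul_left_cancel₀ (mul_ne_zero hb hd) ?_
      rw [hddef]
      linear_combination (v 0) * h1 - (v 1) * h0
    exact ⟨c, CfsgLib.PStab.eq_smul_one_of_two_eigen hc (by rw [he, hef, ← hcf]) hd⟩

/-- In characteristic `p`, commutators of a faithful odd solvable group of degree two have order
dividing `p`. -/
theorem derived_pow_eq_one [IsAlgClosed K] {p : ℕ} [hp : Fact p.Prime] [CharP K p]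
    {H : Type u} [Group H] [Finite H] [Group.IsSolvable H] (hodd : Odd (Nat.card H))
    (ρ : H →* Matrix (Fin 2) (Fin 2) K) (hρ : Function.Injective ρ) :
    ∀ x ∈ commutator H, x ^ p = 1 := by
  obtain ⟨v, hv, htop⟩ := exists_common_eigen_odd (K := K) _ H rfl inferInstance hodd ρ
  have hall : ∀ g, ∃ c : K, ρ g *ᵥ v = c • v := fun g => mem_lineStab.1 (htop ▸ Subgroup.mem_top g)
  choose χ hχ using hall
  have hinj : Function.Injective fun c : K => c • v := smul_left_injective K hv
  let φ : H →* K × K :=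
    { toFun := fun g => (χ g, (ρ g).det)
      map_one' := by
        refine Prod.ext (hinj ?_) (by simp)
        show χ 1 • v = (1 : K) • v
        rw [← hχ, map_one, Matrix.one_mulVec, one_smul]
      map_mul' := fun a b => by
        refine Prod.ext (hinj ?_) (by simp [map_mul, Matrix.det_mul])
        show χ (a * b) • v = (χ a * χ b) • v
        rw [← hχ, map_mul, ← Matrix.mulVec_mulVec, hχ b, Matrix.mulVec_smul, hχ a, smul_smul, mul_comm] }
  intro x hx
  have hker : φ x = 1 := by
    have hle : commutator H ≤ φ.toHomUnits.ker := by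
      rw [_root_.commutator_def, Subgroup.commutator_le]
      intro a _ b _
      rw [MonoidHom.mem_ker, map_commutatorElement, commutatorElement_eq_one_iff_mul_comm]
      exact mul_comm _ _
    have := hle hx
    rw [MonoidHom.mem_ker] at this
    exact congrArg Units.val this
  obtain ⟨h1, h2⟩ := Prod.ext_iff.1 hker
  change χ x = 1 at h1
  change (ρ x).det = 1 at h2
  set A := ρ x with hA
  have e := hχ x
  rw [← hA, h1, one_smul] at e
  have e0 := congrFun e 0
  have e1 := congrFun e 1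
  simp [Matrix.mulVec, dotProduct, Fin.sum_univ_two] at e0 e1
  rw [Matrix.det_fin_two] at h2
  have htr : A 0 0 + A 1 1 = 2 := by
    rcases (show v 0 ≠ 0 ∨ v 1 ≠ 0 by
      by_contra hh
      push Not at hh
      exact hv (by ext i; fin_cases i <;> simp [hh.1, hh.2])) with hh | hh
    · refine mul_left_cancel₀ hh ?_
      linear_combination -(A 1 1 - 1) * e0 + A 0 1 * e1 + v 0 * h2
    · refine mul_left_cancel₀ hh ?_
      linear_combination -(A 0 0 - 1) * e1 + A 1 0 * e0 + v 1 * h2
  have hsq : (A - 1) ^ 2 = 0 := by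
    rw [pow_two]
    ext i j
    fin_cases i <;> fin_cases j <;> simp [Matrix.mul_apply, Fin.sum_univ_two] <;>
      first
      | linear_combination (A 0 0) * htr - h2
      | linear_combination (A 1 1) * htr - h2
      | linear_combination (A 0 1) * htr
      | linear_combination (A 1 0) * htr
  have hz : (A - 1) ^ p = 0 := pow_eq_zero_of_le hp.out.two_le hsq
  rw [sub_pow_char_of_commute p (Commute.one_right A), one_pow, sub_eq_zero] at hz
  exact hρ (by rw [map_pow, map_one, hz])

end CfsgLib.OddLocal.RankTwo
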